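import Cfsg.Agent.Lib.RuRec.CheckW

/-! The rows of the three representatives. -/

set_option autoImplicit false
set_option maxRecDepth 100000

namespace Cfsg.Agent.RuRec

open Cfsg.Agent.RigidGraph Cfsg.Agent.RigidGraph.Ru

theorem rows_ok : ([0, 1, 743].all fun a => allB (fun y =>
    eqB (bit (graph.B.get a) y) (bit (graph.B.get y) a)) 4060) = true := by decide +kernel

theorem row1_ok : (Nat.beq (Nat.land (graph.B.get 1) dom)
      (unionT jW (JorbT.take 3)) && bit (graph.B.get 1) 0 && !bit (graph.B.get 1) 1) = true := by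
  decide +kernel

theorem row743_ok : (Nat.beq (Nat.land (graph.B.get 743) dom)
      (Nat.lor (reach (lgW) (LdomT.getD 0 (0, 0, 0))) (reach (lgW) (LdomT.getD 2 (0, 0, 0)))) &&
    Nat.beq (Nat.land (graph.B.get 743) restSet) (reach (lgW) (LrestT.getD 2 (0, 0, 0))) &&
    !bit (graph.B.get 743) 0) = true := by
  decide +kernel

end Cfsg.Agent.RuRec
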