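import Cfsg.Agent.Lib.RuRec.Sets

/-! Disjointness of the trees, and their starts. -/

set_option autoImplicit false
set_option maxRecDepth 100000

namespace Cfsg.Agent.RuRec

open Cfsg.Agent.RigidGraph Cfsg.Agent.RigidGraph.Ru

theorem jdisj_ok : disjT jW JorbT (ins 0 1) = true := by decide +kernel

theorem ldisj_ok : (disjT lgW LrestT (ins 0 743) && disjT lgW LdomT 0) = true := by decide +kernel

theorem starts : JorbT.map (fun t => t.1) = [2, 4, 87, 345] ∧
    LrestT.map (fun t => t.1) = [19, 20, 21, 23, 24, 71] ∧ LdomT.map (fun t => t.1) = [1, 2, 90] := by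
  decide +kernel

end Cfsg.Agent.RuRec
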