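import Cfsg.Agent.Lib.RuRec.Maps

/-! Long orbits. -/

set_option autoImplicit false
set_option maxRecDepth 100000

namespace Cfsg.Agent.RuRec

open Cfsg.Agent.RigidGraph Cfsg.Agent.RigidGraph.Ru

theorem long2_ok : badC2.all longOK = true := by decide +kernel

end Cfsg.Agent.RuRec
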