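import Cfsg.Agent.Lib.RuRec.Maps

/-! The table of quadruples. -/

set_option autoImplicit false
set_option maxRecDepth 100000

namespace Cfsg.Agent.RuRec

open Cfsg.Agent.RigidGraph Cfsg.Agent.RigidGraph.Ru

theorem next_ok : allB nextOK 14976 = true := by decide +kernel

theorem par_ok : allB parOK 14976 = true := by decide +kernel

theorem base_ok : (Nat.beq (qmask 0) (imgW [] quad0) && Nat.beq repW.length 102) = true := by decide +kernel

end Cfsg.Agent.RuRec
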