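import Cfsg.Agent.Lib.RuRec.Maps

/-! The vectors. -/

set_option autoImplicit false
set_option maxRecDepth 100000

namespace Cfsg.Agent.RuRec

open Cfsg.Agent.RigidGraph Cfsg.Agent.RigidGraph.Ru

theorem octOrd_ok : (incOK vec octOrd && Nat.beq (octOrd.foldr (fun x m => ins m x) 0) dom &&
    octOrd.all (fun x => Nat.blt x 4060)) = true := by decide +kernel

theorem vec16_ok : (octOrd.all fun x => Nat.blt (vec x) 4503599627370496) = true := by decide +kernel

theorem gen0_ok : genOK 0 = true := by decide +kernel

theorem gen1_ok : genOK 1 = true := by decide +kernel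

theorem gen2_ok : genOK 2 = true := by decide +kernel

theorem gen3_ok : genOK 3 = true := by decide +kernel

theorem gen4_ok : genOK 4 = true := by decide +kernel

theorem back_ok : ([0, 1, 2].all fun k => sameB (flatW (backW.getD k [])) [k]) = true := by decide +kernel

end Cfsg.Agent.RuRec
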