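import Cfsg.Agent.Lib.RuRec.Maps

/-! Stabilisers and their orbits. -/

set_option autoImplicit false
set_option maxRecDepth 100000

namespace Cfsg.Agent.RuRec

open Cfsg.Agent.RigidGraph Cfsg.Agent.RigidGraph.Ru

theorem pc_ok : (Nat.beq pcW.length 12 && Nat.beq sqR.length 12 && pcW.all (fun w => fixesW w [0, 1]) &&
    ((List.range 12).all fun i => sameB (seriesW [i, i]) (seriesW (sqR.getD i [])) &&
      (sqR.getD i []).all fun a => Nat.blt i a && Nat.blt a 12) &&
    cjR.all (fun r => sameB (seriesW [r.1, r.2.1]) (seriesW (r.2.2 ++ [r.1])) &&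
      r.2.2.all fun a => Nat.blt r.1 a && Nat.blt a 12) &&
    ((List.range 12).all fun i => (List.range 12).all fun j => !Nat.blt i j ||
      cjR.any fun r => Nat.beq r.1 i && Nat.beq r.2.1 j)) = true := by decide +kernel

theorem comm_ok : allB (fun x => !bit dom x || (Nat.beq x 1 || Nat.beq x 2 || Nat.beq x 3) ||
    !Nat.beq (evalW (seriesW [1, 2] ++ invW (seriesW [1]) ++ invW (seriesW [2])) x) x) 4060 = true := by
  decide +kernel

theorem j_ok : (jW.all (fun w => fixesW w [0, 1]) && coverOK jW JorbT (ins 0 1) dom &&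
    Nat.beq ((JorbT.map fun t => t.2.2 + 1).sum) 1754) = true := by decide +kernel

theorem j_shape : JorbT.map (fun t => t.2.2 + 1) = [10, 80, 640, 1024] := by decide +kernel

theorem uv_ok : (sameB (uW ++ vW) (vW ++ uW) && sameB (uW ++ uW ++ uW ++ uW ++ uW) [] &&
    sameB (vW ++ vW ++ vW ++ vW ++ vW) [] && !sameB uW [] && fixesW uW (0 :: quad0) && fixesW vW (0 :: quad0) &&
    !sameB vW [] && !sameB vW uW && !sameB vW (uW ++ uW) && !sameB vW (uW ++ uW ++ uW) &&
    !sameB vW (uW ++ uW ++ uW ++ uW)) = true := by decide +kernel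

theorem t_ok : (sameB (List.replicate 13 0) [] && !sameB [0] [] &&
    sameB (eW ++ [0]) ([0, 0, 0, 0, 0, 0, 0] ++ eW) &&
    Nat.beq (cntB (fun x => bit restSet x && Nat.beq (evalW [0] x) x) 4060) 3) = true := by decide +kernel

theorem q_ok : (hW.all (fun w => fixesW w [0, 19]) && fixesW h2W [0, 19, 26] &&
    treesOK [[0], [1], [2]] [t19T, TdomT, TrestT] && treesOK hW [t26T] && treesOK [h2W] [t40T]) = true := by
  decide +kernel

theorem q_shape : t19T.1 = 19 ∧ t19T.2.2 + 1 = 2304 ∧ t26T.1 = 26 ∧ t26T.2.2 + 1 = 78 ∧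
    t40T.1 = 40 ∧ t40T.2.2 + 1 = 2 := by decide +kernel

theorem trans_ok : (Nat.beq (reach [[0], [1], [2]] TdomT) dom && Nat.beq (reach [[0], [1], [2]] TrestT) restSet &&
    Nat.beq TdomT.1 1 && Nat.beq TrestT.1 743 && bit restSet 743 && !bit restSet 0 &&
    allB (fun x => Nat.beq x 0 || eqB (bit restSet x) (!bit dom x)) 4060 &&
    Nat.beq (cntB (bit restSet) 4060) 2304) = true := by decide +kernel

/-- the group fixing the point 743 -/
def lgW : List (List ℕ) := [[0], conjW (repW.getD 97 []) uW, conjW (repW.getD 97 []) vW]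

theorem l_ok : (lgW.all (fun w => fixesW w [0, 743]) && coverOK lgW LrestT (ins 0 743) restSet &&
    coverOK lgW LdomT 0 dom && (quad0.any fun x => Nat.beq (evalW (repW.getD 97 []) x) 743)) = true := by
  decide +kernel

theorem l_shape : LrestT.map (fun t => t.2.2 + 1) = [325, 300, 975, 325, 300, 78] ∧
    LdomT.map (fun t => t.2.2 + 1) = [390, 975, 390] := by decide +kernel

end Cfsg.Agent.RuRec
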