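import Cfsg.Agent.Lib.RigidGraph.Ru.NodesT
import Cfsg.Agent.Lib.RuRec.DataO

/-! Words in six permutations of 4060 points, and trees of points. -/

set_option autoImplicit false
set_option maxRecDepth 100000

namespace Cfsg.Agent.RuRec

open Cfsg.Agent.RigidGraph Cfsg.Agent.RigidGraph.Ru

/-- the two generators of the subgroup of index two, the outer element, and the inverses -/
def gl : ℕ → Elt
  | 0 => nodesT0.getD 0 (0, 0)
  | 1 => nodesT0.getD 1 (0, 0)
  | 2 => oE
  | 3 => invE (nodesT0.getD 0 (0, 0))
  | 4 => invE (nodesT0.getD 1 (0, 0))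
  | _ => invE oE

/-- the image of a point under a word -/
def evalW (w : List ℕ) (i : ℕ) : ℕ := w.foldr (fun k x => slot (gl k).1 x) i

/-- the inverse word -/
def invW (w : List ℕ) : List ℕ := w.reverse.map fun k => bif Nat.blt k 3 then k + 3 else bif Nat.blt k 5 then k - 3 else 2

/-- two words agree on the base -/
def sameB (w w' : List ℕ) : Bool :=
  [19, 1, 899].all fun b => Nat.beq (evalW w b) (evalW w' b)

/-- a word fixes all the points of a list -/
def fixesW (w l : List ℕ) : Bool := l.all fun b => Nat.beq (evalW w b) b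

/-- One entry of a tree: a point already reached, and a word. -/
def step (gens : List (List ℕ)) (e m : ℕ) : Option ℕ :=
  let u := Nat.mod e 4096
  let y := evalW (gens.getD (Nat.div e 4096) []) u
  bif bit m u && !bit m y then some (ins m y) else none

/-- The set of points reached by `k` entries. -/
noncomputable def grow (gens : List (List ℕ)) (st w : ℕ) (k : ℕ) : Option ℕ :=
  Nat.rec (some (ins 0 st)) (fun j r => r.bind (step gens (slot w j))) k

/-- The set, or the empty one on failure. -/
noncomputable def reach (gens : List (List ℕ)) (t : ℕ × ℕ × ℕ) : ℕ :=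
  (grow gens t.1 t.2.1 t.2.2).getD 0

/-- A list of trees succeeds. -/
noncomputable def treesOK (gens : List (List ℕ)) (ts : List (ℕ × ℕ × ℕ)) : Bool :=
  ts.all fun t => Nat.blt t.1 4060 && (grow gens t.1 t.2.1 t.2.2).isSome

/-- The union of the trees. -/
noncomputable def unionT (gens : List (List ℕ)) (ts : List (ℕ × ℕ × ℕ)) : ℕ :=
  ts.foldr (fun t m => Nat.lor (reach gens t) m) 0

/-- The sizes are those of pairwise disjoint sets filling `D`. -/
noncomputable def coverOK (gens : List (List ℕ)) (ts : List (ℕ × ℕ × ℕ)) (m0 D : ℕ) : Bool :=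
  treesOK gens ts && Nat.beq (Nat.lor m0 (unionT gens ts)) D

end Cfsg.Agent.RuRec
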