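import Cfsg.Agent.Lib.RuRec.CheckD
import Mathlib.GroupTheory.Perm.Cycle.Type
import Mathlib.GroupTheory.GroupAction.Quotient

/-! Subgroups of order 20480 fix a point of the first suborbit. -/

set_option autoImplicit false
set_option maxRecDepth 100000

namespace Cfsg.Agent.RuRec

open Cfsg.Agent.RigidGraph Cfsg.Agent.RigidGraph.Ru

/-- A five cycle normalised by two permutations fixing a point: they commute. -/
theorem comm_of_five {α : Type*} [Fintype α] [DecidableEq α] (h5 : Fintype.card α = 5) {c σ τ : Equiv.Perm α}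
    (hc : orderOf c = 5) {x : α} (hσ : σ x = x) (hτ : τ x = x) (hσc : σ * c * σ⁻¹ ∈ Subgroup.zpowers c)
    (hτc : τ * c * τ⁻¹ ∈ Subgroup.zpowers c) : σ * τ = τ * σ := by
  have hp : (Fintype.card α).Prime := by rw [h5]; norm_num
  have hcyc : c.IsCycle := Equiv.Perm.isCycle_of_prime_order'' hp (by rw [hc, h5])
  have hsupp : c.support = Finset.univ :=
    Finset.eq_univ_of_card _ (by rw [← hcyc.orderOf, hc, h5])
  obtain ⟨i, hi⟩ := Subgroup.mem_zpowers_iff.1 hσc
  obtain ⟨j, hj⟩ := Subgroup.mem_zpowers_iff.1 hτc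
  have e1 : ∀ k : ℤ, σ * c ^ k * σ⁻¹ = c ^ (i * k) := fun k => by rw [← conj_zpow, ← hi, ← zpow_mul]
  have e2 : ∀ k : ℤ, τ * c ^ k * τ⁻¹ = c ^ (j * k) := fun k => by rw [← conj_zpow, ← hj, ← zpow_mul]
  refine Equiv.ext fun y => ?_
  obtain ⟨k, rfl⟩ := hcyc.sameCycle (x := x) (y := y)
    (Equiv.Perm.mem_support.1 (hsupp ▸ Finset.mem_univ x)) (Equiv.Perm.mem_support.1 (hsupp ▸ Finset.mem_univ y))
  have key : ∀ (π : Equiv.Perm α) (a b : ℤ), π * c ^ a * π⁻¹ = c ^ b → π x = x → π ((c ^ a) x) = (c ^ b) x :=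
    fun π a b h hx => by
      have := congrArg (fun f : Equiv.Perm α => f (π x)) h
      simp only [Equiv.Perm.mul_apply, Equiv.Perm.inv_def, Equiv.symm_apply_apply, hx] at this
      rwa [show π.symm x = x from (Equiv.symm_apply_eq π).2 hx.symm] at this
  rw [Equiv.Perm.mul_apply, Equiv.Perm.mul_apply, key τ k _ (e2 k) hτ, key σ _ _ (e1 _) hσ, key σ k _ (e1 k) hσ,
    key τ _ _ (e2 _) hτ]
  rw [mul_left_comm]

/-- Commutators of a subgroup of index five are in its core, when the order allows it. -/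
theorem comm_mem_conj {K : Type*} [Group K] [Finite K] (S : Subgroup K) (hcard : Nat.card K = 20480)
    (hidx : S.index = 5) {a b : K} (ha : a ∈ S) (hb : b ∈ S) (k : K) :
    k⁻¹ * (a * b * a⁻¹ * b⁻¹) * k ∈ S := by
  classical
  haveI : Fintype (K ⧸ S) := Fintype.ofFinite _
  have h5 : Fintype.card (K ⧸ S) = 5 := by rw [← Nat.card_eq_fintype_card]; exact hidx
  let φ : K →* Equiv.Perm (K ⧸ S) := MulAction.toPermHom K (K ⧸ S)
  let H := φ.range
  have hHK : Nat.card H ∣ 20480 := hcard ▸ Subgroup.card_range_dvd φ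
  have hH120 : Nat.card H ∣ 120 := by
    have := Subgroup.card_subgroup_dvd_card H
    rwa [Nat.card_eq_fintype_card (α := Equiv.Perm (K ⧸ S)), Fintype.card_perm, h5] at this
  have h40 : Nat.card H ∣ 40 := by
    have := Nat.dvd_gcd hHK hH120
    exact this
  have hdiv5 : 5 ∣ Nat.card H := by
    have h1 : (MulAction.orbit H ((1 : K) : K ⧸ S)).ncard = 5 := by
      have : MulAction.orbit H ((1 : K) : K ⧸ S) = Set.univ := by
        refine Set.eq_univ_of_forall fun y => ?_
        obtain ⟨g, rfl⟩ := QuotientGroup.mk_surjective y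
        refine ⟨⟨φ g, g, rfl⟩, ?_⟩
        show φ g ((1 : K) : K ⧸ S) = g
        simp [φ, MulAction.toPermHom]
      rw [this, Set.ncard_univ, Nat.card_eq_fintype_card, h5]
    exact ⟨_, by rw [← (MulAction.stabilizer H ((1 : K) : K ⧸ S)).index_mul_card, MulAction.index_stabilizer, h1]⟩
  haveI : Fact (Nat.Prime 5) := ⟨by norm_num⟩
  obtain ⟨c, hc⟩ := exists_prime_orderOf_dvd_card' 5 hdiv5
  have huniq : ∀ P Q : Sylow 5 H, P = Q := by
    have h1 := card_sylow_modEq_one 5 H
    have hP : ∀ P : Sylow 5 H, P.index ∣ 8 := fun P => by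
      obtain ⟨q, hq⟩ := hdiv5
      have hPc : 5 ∣ Nat.card (P : Subgroup H) := P.dvd_card_of_dvd_card ⟨q, hq⟩
      have hm := (P : Subgroup H).card_mul_index
      obtain ⟨r, hr⟩ := hPc
      obtain ⟨m, hm'⟩ := h40
      refine ⟨r * m, ?_⟩
      rw [hr] at hm
      rw [← hm] at hm'
      nlinarith
    obtain ⟨P⟩ := (inferInstance : Nonempty (Sylow 5 H))
    have h8 : Nat.card (Sylow 5 H) ∣ 8 := P.card_dvd_index.trans (hP P)
    have hle := Nat.le_of_dvd (by norm_num) h8
    have hone : Nat.card (Sylow 5 H) = 1 := by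
      unfold Nat.ModEq at h1
      generalize hm : Nat.card (Sylow 5 H) = m at h1 h8 hle
      interval_cases m <;> simp_all
    haveI := (Nat.card_eq_one_iff_unique.1 hone).1
    exact fun P Q => Subsingleton.elim P Q
  have hcyc5 : Nat.card (Subgroup.zpowers c) = 5 := by rw [Nat.card_zpowers, hc]
  have hfac : (Nat.card H).factorization 5 = 1 := by
    have h25 : ¬ 5 ^ 2 ∣ Nat.card H := fun h => absurd (h.trans h40) (by norm_num)
    have h0 : Nat.card H ≠ 0 := Nat.card_pos.ne'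
    have := (Nat.Prime.pow_dvd_iff_le_factorization (by norm_num : Nat.Prime 5) h0).not.1 h25
    have := (Nat.Prime.pow_dvd_iff_le_factorization (k := 1) (by norm_num : Nat.Prime 5) h0).1 (by rwa [pow_one])
    omega
  have hnorm : ∀ σ : H, σ * c * σ⁻¹ ∈ Subgroup.zpowers c := fun σ => by
    let P : Sylow 5 H := Sylow.ofCard (Subgroup.zpowers c) (by rw [hcyc5, hfac, pow_one])
    have hm : σ * c * σ⁻¹ ∈ (σ • P : Sylow 5 H) := by
      show _ ∈ ((σ • P : Sylow 5 H) : Subgroup H)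
      rw [Sylow.coe_subgroup_smul]
      exact ⟨c, Subgroup.mem_zpowers c, rfl⟩
    rw [huniq (σ • P) P] at hm
    exact hm
  have hn : ∀ g : K, φ g * (c : Equiv.Perm (K ⧸ S)) * (φ g)⁻¹ ∈ Subgroup.zpowers (c : Equiv.Perm (K ⧸ S)) :=
    fun g => by
      obtain ⟨m, hm⟩ := Subgroup.mem_zpowers_iff.1 (hnorm ⟨φ g, g, rfl⟩)
      exact Subgroup.mem_zpowers_iff.2 ⟨m, by
        have := congrArg (fun z : H => (z : Equiv.Perm (K ⧸ S))) hm
        simpa using this⟩
  have hfix : ∀ g ∈ S, φ g ((1 : K) : K ⧸ S) = ((1 : K) : K ⧸ S) := fun g hg => by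
    show g • ((1 : K) : K ⧸ S) = _
    rw [MulAction.Quotient.smul_coe, QuotientGroup.eq]
    simpa using inv_mem hg
  have hcomm := comm_of_five h5 (c := (c : Equiv.Perm (K ⧸ S))) (σ := φ a) (τ := φ b)
    (by rw [Subgroup.orderOf_coe, hc]) (hfix a ha) (hfix b hb) (hn a) (hn b)
  have hone : φ (a * b * a⁻¹ * b⁻¹) = 1 := by
    rw [map_mul, map_mul, map_mul, map_inv, map_inv, hcomm, mul_inv_cancel_right, mul_inv_cancel]
  have := congrArg (fun π : Equiv.Perm (K ⧸ S) => π (k : K ⧸ S)) hone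
  simp only [Equiv.Perm.one_apply] at this
  have h2 : ((a * b * a⁻¹ * b⁻¹ * k : K) : K ⧸ S) = (k : K ⧸ S) := this
  rw [eq_comm, QuotientGroup.eq] at h2
  simpa [mul_assoc] using h2

attribute [local irreducible] pcW sqR cjR jW JorbT dom restSet graph rowsB nodesT0 oE seriesW

/-- The element of the series. -/
noncomputable def ser (i : ℕ) : Equiv.Perm (Fin 4060) := pW (pcW.getD i [])

/-- The tails of the series. -/
noncomputable def tail (i : ℕ) : Subgroup (Equiv.Perm (Fin 4060)) :=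
  Subgroup.closure {x | ∃ a, i ≤ a ∧ a < 12 ∧ ser a = x}

theorem pW_series : ∀ w : List ℕ, pW (seriesW w) = (w.map ser).prod
  | [] => by rw [seriesW, List.flatMap_nil, pW_nil]; rfl
  | a :: w => by
    rw [seriesW, List.flatMap_cons, pW_append, ← seriesW, pW_series w, List.map_cons, List.prod_cons, ser]

theorem series_mem {w : List ℕ} {i : ℕ} (h : (w.all fun a => Nat.blt i a && Nat.blt a 12) = true) :
    pW (seriesW w) ∈ tail (i + 1) := by
  rw [pW_series]
  refine Subgroup.list_prod_mem _ fun x hx => ?_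
  obtain ⟨a, ha, rfl⟩ := List.mem_map.1 hx
  have h' := List.all_eq_true.1 h a ha
  simp only [Bool.and_eq_true, Nat.blt_eq] at h'
  exact Subgroup.subset_closure ⟨a, h'.1, h'.2, rfl⟩

theorem sq_mem {i : ℕ} (hi : i < 12) : ser i * ser i ∈ tail (i + 1) := by
  have h := pc_ok
  simp only [Bool.and_eq_true] at h
  have h' := List.all_eq_true.1 h.1.1.2 i (List.mem_range.2 hi)
  rw [Bool.and_eq_true] at h'
  have := series_mem h'.2
  rw [← eq_of_sameB h'.1, pW_series] at this
  simpa using this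

theorem cj_mem {i j : ℕ} (hij : i < j) (hj : j < 12) : ser i * ser j * (ser i)⁻¹ ∈ tail (i + 1) := by
  have h := pc_ok
  simp only [Bool.and_eq_true] at h
  have h' := List.all_eq_true.1 (List.all_eq_true.1 h.2 i (List.mem_range.2 (hij.trans hj))) j (List.mem_range.2 hj)
  rw [Bool.or_eq_true, Bool.not_eq_true', List.any_eq_true] at h'
  rcases h' with h' | ⟨r, hr, hrij⟩
  · rw [show Nat.blt i j = true from Nat.ble_eq_true_of_le hij] at h'
    exact Bool.noConfusion h'
  simp only [Bool.and_eq_true, Nat.beq_eq] at hrij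
  obtain ⟨rfl, rfl⟩ := hrij
  have h2 := List.all_eq_true.1 h.1.2 r hr
  rw [Bool.and_eq_true] at h2
  have e := eq_of_sameB h2.1
  rw [pW_series, pW_series, List.map_append, List.prod_append] at e
  simp only [List.map_cons, List.map_nil, List.prod_cons, List.prod_nil, mul_one] at e
  rw [e, mul_inv_cancel_right, ← pW_series]
  exact series_mem h2.2

theorem tail_le {i j : ℕ} (h : i ≤ j) : tail j ≤ tail i :=
  Subgroup.closure_mono fun _ ⟨a, ha, ha', e⟩ => ⟨a, h.trans ha, ha', e⟩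

theorem conj_tail {i : ℕ} (hi : i < 12) : ∀ x ∈ tail (i + 1),
    ser i * x * (ser i)⁻¹ ∈ tail (i + 1) ∧ (ser i)⁻¹ * x * ser i ∈ tail (i + 1) := by
  have h1 : ∀ x ∈ tail (i + 1), ser i * x * (ser i)⁻¹ ∈ tail (i + 1) := by
    have hle : tail (i + 1) ≤ (tail (i + 1)).comap (MulAut.conj (ser i)).toMonoidHom := by
      rw [tail, Subgroup.closure_le]
      rintro _ ⟨a, ha, ha', rfl⟩
      exact cj_mem ha ha'
    exact fun x hx => hle hx
  refine fun x hx => ⟨h1 x hx, ?_⟩
  have e : (ser i)⁻¹ * x * ser i = (ser i * ser i)⁻¹ * (ser i * x * (ser i)⁻¹) * (ser i * ser i) := by group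
  rw [e]
  exact mul_mem (mul_mem (inv_mem (sq_mem hi)) (h1 x hx)) (sq_mem hi)

theorem tail_cases {i : ℕ} (hi : i < 12) {x : Equiv.Perm (Fin 4060)} (hx : x ∈ tail i) :
    x ∈ tail (i + 1) ∨ (ser i)⁻¹ * x ∈ tail (i + 1) := by
  induction hx using Subgroup.closure_induction with
  | mem y hy =>
    obtain ⟨a, ha, ha', rfl⟩ := hy
    rcases eq_or_lt_of_le ha with rfl | h
    · exact Or.inr (by rw [inv_mul_cancel]; exact one_mem _)
    · exact Or.inl (Subgroup.subset_closure ⟨a, h, ha', rfl⟩)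
  | one => exact Or.inl (one_mem _)
  | mul a b _ _ ha hb =>
    rcases ha with ha | ha <;> rcases hb with hb | hb
    · exact Or.inl (mul_mem ha hb)
    · refine Or.inr ?_
      have e : (ser i)⁻¹ * (a * b) = ((ser i)⁻¹ * a * ser i) * ((ser i)⁻¹ * b) := by group
      rw [e]; exact mul_mem (conj_tail hi a ha).2 hb
    · exact Or.inr (by rw [← mul_assoc]; exact mul_mem ha hb)
    · refine Or.inl ?_
      have e : a * b = (ser i * ((ser i)⁻¹ * a) * (ser i)⁻¹) * (ser i * ser i) * ((ser i)⁻¹ * b) := by group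
      rw [e]; exact mul_mem (mul_mem (conj_tail hi _ ha).1 (sq_mem hi)) hb
  | inv a _ ha =>
    rcases ha with ha | ha
    · exact Or.inl (inv_mem ha)
    · refine Or.inr ?_
      have e : (ser i)⁻¹ * a⁻¹ = (ser i * ser i)⁻¹ * (ser i * ((ser i)⁻¹ * a)⁻¹ * (ser i)⁻¹) := by group
      rw [e]; exact mul_mem (inv_mem (sq_mem hi)) (conj_tail hi _ (inv_mem ha)).1

theorem tail_pow : ∀ d ≤ 12, ∀ x ∈ tail (12 - d), x ^ 2 ^ d = 1 := by
  intro d
  induction d with
  | zero =>
    intro _ x hx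
    have : tail (12 - 0) = ⊥ := by
      rw [tail, Subgroup.closure_eq_bot_iff]
      rintro y ⟨a, ha, ha', -⟩
      omega
    rw [this, Subgroup.mem_bot] at hx
    rw [hx, one_pow]
  | succ d ih =>
    intro hd x hx
    have hsucc : 12 - (d + 1) + 1 = 12 - d := by omega
    have hi : 12 - (d + 1) < 12 := by omega
    have hx2 : x * x ∈ tail (12 - d) := by
      rw [← hsucc]
      rcases tail_cases hi hx with h | h
      · exact mul_mem h h
      · have e : x * x = (ser (12 - (d + 1)) * ((ser (12 - (d + 1)))⁻¹ * x) * (ser (12 - (d + 1)))⁻¹) *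
            (ser (12 - (d + 1)) * ser (12 - (d + 1))) * ((ser (12 - (d + 1)))⁻¹ * x) := by group
        rw [e]; exact mul_mem (mul_mem (conj_tail hi _ h).1 (sq_mem hi)) h
    rw [pow_succ', pow_mul, pow_two]
    exact ih (by omega) _ hx2

theorem tail_zero_le : tail 0 ≤ Stab p1 := by
  rw [tail, Subgroup.closure_le]
  rintro _ ⟨a, -, ha, rfl⟩
  have h := pc_ok
  simp only [Bool.and_eq_true, Nat.beq_eq] at h
  have hm : pcW.getD a [] ∈ pcW := by
    rw [List.getD_eq_getElem _ _ (by omega)]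
    exact List.getElem_mem _
  exact ⟨(pW_mem _).1, pW_fix (List.all_eq_true.1 h.1.1.1.2 _ hm)⟩

theorem exists_S2 : ∃ S ≤ Stab p1, Nat.card S = 2 ^ 12 ∧ ser 1 ∈ S ∧ ser 2 ∈ S := by
  haveI : Fact (Nat.Prime 2) := ⟨Nat.prime_two⟩
  have hp : IsPGroup 2 ((tail 0).subgroupOf (Stab p1)) := fun x => ⟨12, Subtype.ext (Subtype.ext (by
    have := tail_pow 12 le_rfl ((x : ↥(Stab p1)) : Equiv.Perm (Fin 4060)) x.2
    simpa using this))⟩
  obtain ⟨P, hP⟩ := hp.exists_le_sylow
  refine ⟨(P : Subgroup ↥(Stab p1)).map (Stab p1).subtype, Subgroup.map_subtype_le _, ?_, ?_, ?_⟩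
  · rw [← Nat.card_congr ((P : Subgroup ↥(Stab p1)).equivMapOfInjective _ (Stab p1).subtype_injective).toEquiv]
    have := P.card_eq_multiplicity
    rw [card_Stab_p1] at this
    rw [this, show (20480 : ℕ) = 2 ^ 12 * 5 by norm_num, Nat.factorization_mul (by norm_num) (by norm_num),
      Finsupp.add_apply, Nat.factorization_pow, Finsupp.smul_apply, Nat.prime_two.factorization_self,
      Nat.factorization_eq_zero_of_not_dvd (by norm_num : ¬ 2 ∣ 5)]
    rfl
  all_goals
    have hm : ∀ a, a < 12 → ser a ∈ tail 0 := fun a ha => Subgroup.subset_closure ⟨a, Nat.zero_le _, ha, rfl⟩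
  · exact ⟨⟨ser 1, tail_zero_le (hm 1 (by norm_num))⟩, hP (hm 1 (by norm_num)), rfl⟩
  · exact ⟨⟨ser 2, tail_zero_le (hm 2 (by norm_num))⟩, hP (hm 2 (by norm_num)), rfl⟩

theorem comm_fixed {x : Fin 4060} (hx : InD x)
    (h : (ser 1 * ser 2 * (ser 1)⁻¹ * (ser 2)⁻¹) x = x) : (x : ℕ) = 1 ∨ (x : ℕ) = 2 ∨ (x : ℕ) = 3 := by
  have e : pW (seriesW [1, 2] ++ invW (seriesW [1]) ++ invW (seriesW [2])) = ser 1 * ser 2 * (ser 1)⁻¹ * (ser 2)⁻¹ := by
    rw [pW_append, pW_append, pW_invW, pW_invW, pW_series, pW_series, pW_series]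
    simp
  have h' := allB_spec comm_ok x.2
  rw [show bit dom x = true from hx, ← pW_apply, e, h] at h'
  simpa [Nat.beq_eq, or_assoc] using h'

theorem factorization_Mst_two : (Nat.card Mst).factorization 2 = 12 := by
  rw [card_Mst, show (35942400 : ℕ) = 2 ^ 12 * 8775 by norm_num, Nat.factorization_mul (by norm_num) (by norm_num),
    Finsupp.add_apply, Nat.factorization_pow, Finsupp.smul_apply, Nat.prime_two.factorization_self,
    Nat.factorization_eq_zero_of_not_dvd (by norm_num : ¬ 2 ∣ 8775)]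
  rfl

/-- **Subgroups of order 20480 are point stabilisers.** -/
theorem exists_J {K : Subgroup (Equiv.Perm (Fin 4060))} (hK : K ≤ Mst) (hc : Nat.card K = 20480) :
    ∃ p, InD p ∧ K = Stab p := by
  haveI : Fact (Nat.Prime 2) := ⟨Nat.prime_two⟩
  obtain ⟨S, hS, hScard, h1, h2⟩ := exists_S2
  obtain ⟨P, hP⟩ := Sylow.exists_subgroup_card_pow_prime 2 (n := 12) (G := K) (by rw [hc]; norm_num)
  have hPm : Nat.card (P.map K.subtype) = 2 ^ 12 := by
    rw [← Nat.card_congr (P.equivMapOfInjective _ K.subtype_injective).toEquiv, hP]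
  have hSM : S ≤ Mst := fun x hx => (mem_Stab.1 (hS hx)).1
  obtain ⟨g, hg, hgS⟩ := exists_conj factorization_Mst_two hSM ((Subgroup.map_subtype_le _).trans hK) hScard hPm
  set K1 := conjS g⁻¹ K with hK1
  have hK1le : K1 ≤ Mst := conjS_le (inv_mem hg) hK
  have hK1card : Nat.card K1 = 20480 := (card_conjS _ _).trans hc
  have hSK : S ≤ K1 := fun x hx => by
    rw [hK1, mem_conjS, inv_inv]
    have : g * x * g⁻¹ ∈ P.map K.subtype := hgS ▸ ⟨x, hx, rfl⟩
    exact Subgroup.map_subtype_le _ this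
  have hidx : (S.subgroupOf K1).index = 5 := by
    have h := (S.subgroupOf K1).card_mul_index
    rw [Nat.card_congr (Subgroup.subgroupOfEquivOfLe hSK).toEquiv, hScard, hK1card] at h
    omega
  have hcore : ∀ k ∈ K1, k⁻¹ * (ser 1 * ser 2 * (ser 1)⁻¹ * (ser 2)⁻¹) * k ∈ S := fun k hk =>
    comm_mem_conj (S.subgroupOf K1) hK1card hidx (a := ⟨ser 1, hSK h1⟩) (b := ⟨ser 2, hSK h2⟩) h1 h2 ⟨k, hk⟩
  have hO : MulAction.orbit ↥K1 p1 ⊆ {p1, ⟨2, by norm_num⟩, ⟨3, by norm_num⟩} := by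
    rintro _ ⟨k, rfl⟩
    have hd : InD ((k : Equiv.Perm (Fin 4060)) p1) := (InD_smul (hK1le k.2)).2 InD_p1
    have hf := (mem_Stab.1 (hS (hcore k k.2))).2
    rw [Equiv.Perm.mul_apply, Equiv.Perm.mul_apply, Equiv.Perm.inv_def, Equiv.symm_apply_eq] at hf
    show (k : Equiv.Perm (Fin 4060)) p1 ∈ _
    rcases comm_fixed hd hf with e | e | e
    · exact Or.inl (Fin.ext e)
    · exact Or.inr (Or.inl (Fin.ext e))
    · exact Or.inr (Or.inr (Fin.ext e))
  have hdiv : (MulAction.orbit ↥K1 p1).ncard ∣ 5 := by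
    rw [← MulAction.index_stabilizer]
    have hle : S.subgroupOf K1 ≤ MulAction.stabilizer ↥K1 p1 := fun k hk => (mem_Stab.1 (hS hk)).2
    exact hidx ▸ Subgroup.index_dvd_of_le hle
  have hle3 : (MulAction.orbit ↥K1 p1).ncard ≤ 3 :=
    (Set.ncard_le_ncard hO).trans ((Set.ncard_insert_le _ _).trans (by
      have := Set.ncard_insert_le (⟨2, by norm_num⟩ : Fin 4060) {(⟨3, by norm_num⟩ : Fin 4060)}
      rw [Set.ncard_singleton] at this
      omega))
  have hone : (MulAction.orbit ↥K1 p1).ncard = 1 := by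
    rcases (Nat.dvd_prime (by norm_num : Nat.Prime 5)).1 hdiv with h | h <;> omega
  have hfix : K1 ≤ Stab p1 := fun k hk => mem_Stab.2 ⟨hK1le hk, by
    obtain ⟨y, hy⟩ := Set.ncard_eq_one.1 hone
    have a1 : p1 ∈ MulAction.orbit ↥K1 p1 := MulAction.mem_orbit_self _
    have a2 : k p1 ∈ MulAction.orbit ↥K1 p1 := ⟨⟨k, hk⟩, rfl⟩
    rw [hy, Set.mem_singleton_iff] at a1 a2
    rw [a2, a1]⟩
  have heq : K1 = Stab p1 := Subgroup.eq_of_le_of_card_ge hfix (by rw [hK1card, card_Stab_p1])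
  refine ⟨g p1, (InD_smul hg).2 InD_p1, ?_⟩
  rw [← Stab_smul hg, ← heq]
  ext x
  rw [mem_conjS, hK1, mem_conjS]
  simp [mul_assoc]

/-- A point stabiliser fixes one point of the first suborbit. -/
theorem Stab_fix_dom {p q : Fin 4060} (hp : InD p) (hq : InD q) (h : ∀ σ ∈ Stab p, σ q = q) : q = p := by
  obtain ⟨τ, hτ, rfl⟩ := trans_dom hp
  suffices key : ∀ x : Fin 4060, InD x → (∀ σ ∈ Stab p1, σ x = x) → x = p1 by
    have := key (τ⁻¹ q) ((InD_smul (inv_mem hτ)).2 hq) fun σ hσ => by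
      have hm : τ * σ * τ⁻¹ ∈ Stab (τ p1) := Stab_smul hτ p1 ▸ ⟨σ, hσ, rfl⟩
      have e := h _ hm
      rw [Equiv.Perm.mul_apply, Equiv.Perm.mul_apply] at e
      exact τ.injective (e.trans (τ.apply_symm_apply q).symm)
    rw [← this, Equiv.Perm.inv_def, Equiv.apply_symm_apply]
  intro x hx hfix
  by_contra hne
  have h' := j_ok
  simp only [Bool.and_eq_true] at h'
  have hS : ({x} : Set (Fin 4060)).ncard = pick {x} JorbT := ncard_cover h'.1.2 jdisj_ok (fun g hg y => by
    have hg' : pW g ∈ Stab p1 := ⟨(pW_mem _).1, pW_fix (List.all_eq_true.1 h'.1.1 g hg)⟩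
    constructor
    · intro hy
      exact (pW g).injective ((show pW g y = x from hy).trans (hfix _ hg').symm)
    · rintro rfl
      exact hfix _ hg') (by
    rintro y rfl
    refine ⟨hx, Bool.eq_false_iff.2 fun hy => ?_⟩
    rcases (bit_ins _ _ _).1 hy with hy | hy
    · exact hne (Fin.ext hy)
    · rw [bit_zero] at hy; exact Bool.noConfusion hy)
  rw [Set.ncard_singleton] at hS
  have hk : ∀ t ∈ JorbT, 10 ≤ t.2.2 + 1 := fun t ht => by
    have : t.2.2 + 1 ∈ JorbT.map (fun t => t.2.2 + 1) := List.mem_map.2 ⟨t, ht, rfl⟩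
    rw [j_shape] at this
    simp only [List.mem_cons, List.not_mem_nil, or_false] at this
    omega
  rw [pick] at hS
  classical
  generalize JorbT = L at hS hk
  induction L with
  | nil => simp at hS
  | cons a L ih =>
    rw [List.map_cons, List.sum_cons] at hS
    have := hk a List.mem_cons_self
    split_ifs at hS with hh
    · omega
    · exact ih (by simpa using hS) fun t ht => hk t (List.mem_cons_of_mem _ ht)

end Cfsg.Agent.RuRec
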