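import Cfsg.Agent.Lib.RuRec.CheckD
import Cfsg.Agent.Lib.RuRec.CheckQ
import Cfsg.Agent.Lib.RuRec.CheckK0
import Cfsg.Agent.Lib.RuRec.CheckK1
import Cfsg.Agent.Lib.RuRec.CheckK2
import Cfsg.Agent.Lib.RuRec.CheckK3
import Cfsg.Agent.Lib.RuRec.CheckKc

/-! Subgroups of order 15600 fix a point of the second suborbit. -/

set_option autoImplicit false
set_option maxRecDepth 100000

namespace Cfsg.Agent.RuRec

open Cfsg.Agent.RigidGraph Cfsg.Agent.RigidGraph.Ru

attribute [local irreducible] uW vW eW hW h2W lgW repW quadT LrestT LdomT dom restSet graph rowsB nodesT0 oE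
  badC0 badC1 badC2 badC3 entry qmask qlist parOK nextOK evalW pW pg gl

/-- The element of order 13. -/
noncomputable abbrev tEl : Equiv.Perm (Fin 4060) := pW [0]

theorem t_order : orderOf tEl = 13 := by
  have h := t_ok
  simp only [Bool.and_eq_true, Bool.not_eq_true'] at h
  haveI : Fact (Nat.Prime 13) := ⟨by norm_num⟩
  refine orderOf_eq_prime ?_ fun e => ?_
  · have := eq_of_sameB h.1.1.1
    rw [pW_nil, pW, List.map_replicate, List.prod_replicate] at this
    rw [tEl, pW_cons, pW_nil, mul_one]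
    exact this
  · have h2 : sameB [0] [] = true := by
      simp only [sameB, List.all_eq_true, Nat.beq_eq]
      intro b hb
      have hb' : b < 4060 := by
        simp only [List.mem_cons, List.not_mem_nil, or_false] at hb; omega
      have e1 := pW_apply [0] ⟨b, hb'⟩
      have e2 := pW_apply [] ⟨b, hb'⟩
      rw [show pW [0] = 1 from e] at e1
      rw [pW_nil] at e2
      exact e1.symm.trans e2
    rw [h.1.1.2] at h2
    exact Bool.noConfusion h2

theorem card_zt : Nat.card (Subgroup.zpowers tEl) = 13 := by rw [Nat.card_zpowers, t_order]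

theorem zt_le : Subgroup.zpowers tEl ≤ Mst := Subgroup.zpowers_le.2 (pW_mem _)

/-- Elements normalising the cyclic group of order 13. -/
def NT (n : Equiv.Perm (Fin 4060)) : Prop := n ∈ Mst ∧ n * tEl * n⁻¹ ∈ Subgroup.zpowers tEl

theorem NT_one : NT 1 := ⟨one_mem _, by simp [Subgroup.mem_zpowers]⟩

theorem NT_mul {a b : Equiv.Perm (Fin 4060)} (ha : NT a) (hb : NT b) : NT (a * b) := by
  refine ⟨mul_mem ha.1 hb.1, ?_⟩
  obtain ⟨k, hk⟩ := Subgroup.mem_zpowers_iff.1 hb.2
  obtain ⟨l, hl⟩ := Subgroup.mem_zpowers_iff.1 ha.2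
  refine Subgroup.mem_zpowers_iff.2 ⟨l * k, ?_⟩
  rw [zpow_mul, hl, conj_zpow, hk]
  group

theorem NT_t : NT tEl := ⟨pW_mem _, by simp [Subgroup.mem_zpowers]⟩

theorem NT_e : NT (pW eW) := by
  refine ⟨pW_mem _, Subgroup.mem_zpowers_iff.2 ⟨7, ?_⟩⟩
  have h := t_ok
  simp only [Bool.and_eq_true] at h
  have e := eq_of_sameB h.1.2
  rw [pW_append, pW_append] at e
  have e7 : pW [0, 0, 0, 0, 0, 0, 0] = tEl ^ (7 : ℕ) := by
    simp only [tEl, pW_cons, pW_nil, mul_one, pow_succ, pow_zero, one_mul, mul_assoc]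
  rw [e7] at e
  rw [eq_mul_inv_iff_mul_eq, show tEl ^ (7 : ℤ) = tEl ^ (7 : ℕ) from zpow_natCast _ 7]
  exact e.symm

/-! ### Quadruples -/

/-- The set of a quadruple. -/
def Qs (i : ℕ) : Set (Fin 4060) := {x | bit (qmask i) x = true}

/-- The set of the first quadruple. -/
def Q0 : Set (Fin 4060) := {x | (x : ℕ) ∈ quad0}

theorem bit_imgW (w : List ℕ) : ∀ (l : List ℕ) (y : ℕ), bit (imgW w l) y = true ↔ ∃ x ∈ l, evalW w x = y
  | [], y => by simp [imgW, bit_zero]
  | a :: l, y => by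
    show bit (ins (imgW w l) (evalW w a)) y = true ↔ _
    rw [bit_ins, bit_imgW w l y]
    simp [eq_comm]

theorem mem_qlist {i y : ℕ} : bit (qmask i) y = true ↔ y ∈ qlist i := by
  unfold qmask qlist
  show bit (Nat.rec 0 (fun j r => ins r (slot (entry i) j)) 4) y = true ↔ _
  rw [bit_foldBits]
  constructor
  · rintro ⟨j, hj, rfl⟩
    interval_cases j <;> simp
  · intro h
    simp only [List.mem_cons, List.not_mem_nil, or_false] at h
    rcases h with h | h | h | h
    exacts [⟨0, by norm_num, h.symm⟩, ⟨1, by norm_num, h.symm⟩, ⟨2, by norm_num, h.symm⟩, ⟨3, by norm_num, h.symm⟩]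

theorem img_Q {w l : List ℕ} {m : ℕ} (h : imgW w l = m) (hl : ∀ x ∈ l, x < 4060) :
    pW w '' {x : Fin 4060 | (x : ℕ) ∈ l} = {x : Fin 4060 | bit m x = true} := by
  subst h
  ext y
  simp only [Set.mem_image, Set.mem_ofPred_eq, bit_imgW]
  constructor
  · rintro ⟨x, hx, rfl⟩
    exact ⟨x, hx, (pW_apply w x).symm⟩
  · rintro ⟨x, hx, e⟩
    exact ⟨⟨x, hl x hx⟩, hx, Fin.ext ((pW_apply w _).trans e)⟩

theorem qlist_lt {i : ℕ} (hi : i < 14976) : ∀ x ∈ qlist i, x < 4060 := fun x hx => by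
  have h := allB_spec next_ok hi
  rw [nextOK] at h
  simp only [List.all_cons, Bool.and_eq_true, Nat.blt_eq] at h
  have := List.all_eq_true.1 h.1.1.2 x hx
  rwa [Nat.blt_eq] at this

theorem Qs_eq (i : ℕ) : Qs i = {x : Fin 4060 | (x : ℕ) ∈ qlist i} := Set.ext fun _ => mem_qlist

theorem next_img {i : ℕ} (hi : i < 14976) {k : ℕ} (hk : k < 3) :
    ∃ i' < 14976, pg k '' Qs i = Qs i' := by
  have h := allB_spec next_ok hi
  rw [nextOK] at h
  have h' := List.all_eq_true.1 h k (by simp; omega)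
  simp only [Bool.and_eq_true, Nat.blt_eq, Nat.beq_eq] at h'
  refine ⟨_, h'.1.1, ?_⟩
  rw [show pg k = pW [k] by rw [pW_cons, pW_nil, mul_one], Qs_eq i]
  exact img_Q h'.2 (qlist_lt hi)

/-- The permutations keeping the table. -/
noncomputable def keepQ : Submonoid (Equiv.Perm (Fin 4060)) where
  carrier := {σ | ∀ i < 14976, ∃ i' < 14976, σ '' Qs i = Qs i'}
  one_mem' i hi := ⟨i, hi, by simp⟩
  mul_mem' {a b} ha hb i hi := by
    obtain ⟨j, hj, ej⟩ := hb i hi
    obtain ⟨l, hl, el⟩ := ha j hj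
    refine ⟨l, hl, ?_⟩
    rw [Equiv.Perm.coe_mul, Set.image_comp, ej, el]

theorem Mst_keep {σ : Equiv.Perm (Fin 4060)} (hσ : σ ∈ Mst) : σ ∈ keepQ := by
  rw [← Mst_closure] at hσ
  induction hσ using Subgroup.closure_induction with
  | mem x hx =>
    intro i hi
    rcases hx with rfl | rfl | rfl
    exacts [next_img hi (by norm_num), next_img hi (by norm_num), next_img hi (by norm_num)]
  | one => exact keepQ.one_mem
  | mul a b _ _ ha hb => exact keepQ.mul_mem ha hb
  | inv a _ ha =>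
    have e : a⁻¹ = a ^ (orderOf a - 1) := inv_eq_of_mul_eq_one_right (by
      rw [← pow_succ', Nat.sub_add_cancel (orderOf_pos a), pow_orderOf_eq_one])
    rw [e]
    exact Submonoid.pow_mem _ ha _

theorem quad0_lt : ∀ x ∈ quad0, x < 4060 := by decide

theorem par_spec : ∀ i < 14976, ∃ n, NT n ∧ ∃ j < 102, Qs i = (n * pW (repW.getD j [])) '' Q0 := by
  intro i
  induction i using Nat.strong_induction_on with
  | _ i ih =>
    intro hi
    have h := allB_spec par_ok hi
    rw [parOK] at h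
    cases hb : Nat.blt (slot (entry i) 7) 32768 with
    | true =>
      rw [hb, cond_true, Bool.and_eq_true, Nat.blt_eq, Nat.beq_eq] at h
      obtain ⟨hp, e⟩ := h
      obtain ⟨n, hn, j, hj, ej⟩ := ih _ hp (hp.trans hi)
      have e' := img_Q e (qlist_lt (hp.trans hi))
      rw [← Qs_eq] at e'
      have hg : NT (pW (bif Nat.beq (Nat.mod (slot (entry i) 7) 2) 1 then eW else [0])) := by
        cases Nat.beq (Nat.mod (slot (entry i) 7) 2) 1
        exacts [NT_t, NT_e]
      refine ⟨_, NT_mul hg hn, j, hj, ?_⟩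
      rw [show Qs i = {x : Fin 4060 | bit (qmask i) x = true} from rfl, ← e', ej]
      simp only [Equiv.Perm.coe_mul, Set.image_comp]
    | false =>
      rw [hb, cond_false, Bool.and_eq_true, Nat.blt_eq, Nat.beq_eq] at h
      refine ⟨1, NT_one, _, h.1, ?_⟩
      rw [one_mul, Q0, img_Q h.2 quad0_lt]
      rfl

theorem quad_reach {h : Equiv.Perm (Fin 4060)} (hh : h ∈ Mst) :
    ∃ n, NT n ∧ ∃ j < 102, h '' Q0 = (n * pW (repW.getD j [])) '' Q0 := by
  obtain ⟨i, hi, e⟩ := Mst_keep hh 0 (by norm_num)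
  have h0 : Qs 0 = Q0 := by
    have hb := base_ok
    simp only [Bool.and_eq_true, Nat.beq_eq] at hb
    have := img_Q (w := []) hb.1.symm quad0_lt
    rw [pW_nil] at this
    rw [show Qs 0 = {x : Fin 4060 | bit (qmask 0) x = true} from rfl, ← this, Q0]
    simp
  rw [h0] at e
  rw [e]
  exact par_spec i hi

/-! ### The subgroup of order 25 -/

/-- A subgroup of order 25. -/
noncomputable def P25 : Subgroup (Equiv.Perm (Fin 4060)) := Subgroup.closure {pW uW, pW vW}

/-- The pointwise stabiliser of the first quadruple. -/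
noncomputable def Fix5 : Subgroup (Equiv.Perm (Fin 4060)) := autG 4060 graph ⊓ fixList 4060 (0 :: quad0)

theorem card_Fix5_le : Nat.card Fix5 ≤ 100 := by
  have h := q_ok
  simp only [Bool.and_eq_true, List.all_eq_true] at h
  obtain ⟨⟨⟨⟨hh, hh2⟩, ht0⟩, ht1⟩, ht2⟩ := h
  obtain ⟨s1, s2, s3, s4, s5, s6⟩ := q_shape
  obtain ⟨l1, g1⟩ := treesOK_spec ht0 (t := t19T) (by simp)
  obtain ⟨l2, g2⟩ := treesOK_spec ht1 (t := t26T) (by simp)
  obtain ⟨l3, g3⟩ := treesOK_spec ht2 (t := t40T) (by simp)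
  have o1 := orbit_ge l1 g1 (H := autG 4060 graph ⊓ fixList 4060 [0]) fun g _ => pW_mem g
  have o2 := orbit_ge l2 g2 (H := autG 4060 graph ⊓ fixList 4060 [0, 19]) fun g hg =>
    ⟨(pW_mem g).1, pW_fix (hh g hg)⟩
  have o3 := orbit_ge l3 g3 (H := autG 4060 graph ⊓ fixList 4060 [0, 19, 26]) fun g hg => by
    rw [List.mem_singleton.1 hg]
    exact ⟨(pW_mem _).1, pW_fix hh2⟩
  have c1 := card_split (autG 4060 graph) [0] ⟨t19T.1, l1⟩
  have c2 := card_split (autG 4060 graph) [0, 19] ⟨t26T.1, l2⟩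
  have c3 := card_split (autG 4060 graph) [0, 19, 26] ⟨t40T.1, l3⟩
  simp only [s1, s3, s5, List.cons_append, List.nil_append] at o1 o2 o3 c1 c2 c3
  rw [s2] at o1
  rw [s4] at o2
  rw [s6] at o3
  have hM : Nat.card ↥(autG 4060 graph ⊓ fixList 4060 [0]) = 35942400 := card_Mst
  rw [hM, c2, c3] at c1
  have h5 : Nat.card Fix5 ≤ Nat.card ↥(autG 4060 graph ⊓ fixList 4060 [0, 19, 26, 40]) :=
    Subgroup.card_le_of_le fun x hx => ⟨hx.1, fun i hi => hx.2 i (by
      simp only [quad0, List.mem_cons, List.not_mem_nil, or_false] at hi ⊢; omega)⟩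
  have := Nat.mul_le_mul (Nat.mul_le_mul o1 o2) o3
  nlinarith

theorem Fix5_le : Fix5 ≤ Mst := fun x hx =>
  ⟨hx.1, fun i hi => hx.2 i (List.mem_cons.2 (Or.inl (List.mem_singleton.1 hi)))⟩

theorem uv_facts : pW uW * pW vW = pW vW * pW uW ∧ pW uW ^ 5 = 1 ∧ pW vW ^ 5 = 1 ∧ pW uW ∈ Fix5 ∧ pW vW ∈ Fix5 ∧
    pW uW ≠ 1 ∧ pW vW ∉ Subgroup.zpowers (pW uW) := by
  have h := uv_ok
  simp only [Bool.and_eq_true, Bool.not_eq_true'] at h
  obtain ⟨⟨⟨⟨⟨⟨⟨⟨⟨⟨hc, hu⟩, hv⟩, hu1⟩, fu⟩, fv⟩, n0⟩, n1⟩, n2⟩, n3⟩, n4⟩ := h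
  have hne : ∀ w w', sameB w w' = false → pW w ≠ pW w' := fun w w' hs e => by
    have h2 : sameB w w' = true := by
      simp only [sameB, List.all_eq_true, Nat.beq_eq]
      intro b hb
      have hb' : b < 4060 := by
        simp only [List.mem_cons, List.not_mem_nil, or_false] at hb; omega
      rw [← pW_apply w ⟨b, hb'⟩, ← pW_apply w' ⟨b, hb'⟩, e]
    rw [hs] at h2
    exact Bool.noConfusion h2
  have e5 : ∀ w, sameB (w ++ w ++ w ++ w ++ w) [] = true → pW w ^ 5 = 1 := fun w hw => by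
    have := eq_of_sameB hw
    simp only [pW_append, pW_nil] at this
    simpa [pow_succ, mul_assoc] using this
  refine ⟨by simpa [pW_append] using eq_of_sameB hc, e5 _ hu, e5 _ hv, ⟨(pW_mem _).1, pW_fix fu⟩,
    ⟨(pW_mem _).1, pW_fix fv⟩, by simpa [pW_nil] using hne _ _ hu1, fun hmem => ?_⟩
  obtain ⟨k, hk⟩ := Subgroup.mem_zpowers_iff.1 hmem
  rw [← zpow_mod_orderOf] at hk
  have ho : orderOf (pW uW) = 5 := by
    haveI : Fact (Nat.Prime 5) := ⟨by norm_num⟩
    exact orderOf_eq_prime (e5 _ hu) (by simpa [pW_nil] using hne _ _ hu1)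
  rw [ho] at hk
  have h0 := Int.emod_nonneg k (show ((5 : ℕ) : ℤ) ≠ 0 by norm_num)
  have h5 := Int.emod_lt_of_pos k (show (0 : ℤ) < ((5 : ℕ) : ℤ) by norm_num)
  obtain ⟨m, hm⟩ := Int.eq_ofNat_of_zero_le h0
  rw [hm, zpow_natCast] at hk
  have hm5 : m < 5 := by rw [hm] at h5; exact_mod_cast h5
  interval_cases m
  · exact hne _ _ n0 (by rw [pW_nil, ← hk, pow_zero])
  · exact hne _ _ n1 (by rw [← hk, pow_one])
  · exact hne _ _ n2 (by rw [← hk, pW_append, pow_two])
  · exact hne _ _ n3 (by rw [← hk, pW_append, pW_append]; simp [pow_succ])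
  · exact hne _ _ n4 (by rw [← hk, pW_append, pW_append, pW_append]; simp [pow_succ])

theorem P25_le : P25 ≤ Fix5 := by
  obtain ⟨-, -, -, fu, fv, -, -⟩ := uv_facts
  rw [P25, Subgroup.closure_le, Set.insert_subset_iff, Set.singleton_subset_iff]
  exact ⟨fu, fv⟩

theorem card_P25 : Nat.card P25 = 25 := by
  obtain ⟨hc, hu, hv, -, -, hne, hnot⟩ := uv_facts
  haveI : Fact (Nat.Prime 5) := ⟨by norm_num⟩
  have hall : ∀ x ∈ P25, ∃ a b : ℕ, x = pW uW ^ a * pW vW ^ b := by
    intro x hx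
    induction hx using Subgroup.closure_induction with
    | mem y hy =>
      rcases hy with rfl | rfl
      exacts [⟨1, 0, by simp⟩, ⟨0, 1, by simp⟩]
    | one => exact ⟨0, 0, by simp⟩
    | mul a b _ _ ha hb =>
      obtain ⟨i, j, rfl⟩ := ha
      obtain ⟨k, l, rfl⟩ := hb
      refine ⟨i + k, j + l, ?_⟩
      have := ((show Commute (pW vW) (pW uW) from hc.symm).pow_pow j k).eq
      rw [pow_add, pow_add, mul_assoc (pW uW ^ i), ← mul_assoc (pW vW ^ j), this]
      simp [mul_assoc]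
    | inv a _ ha =>
      obtain ⟨i, j, rfl⟩ := ha
      refine ⟨4 * i, 4 * j, inv_eq_of_mul_eq_one_right ?_⟩
      have := ((show Commute (pW vW) (pW uW) from hc.symm).pow_pow j (4 * i)).eq
      rw [mul_assoc, ← mul_assoc (pW vW ^ j), this, mul_assoc, ← mul_assoc, ← pow_add, ← pow_add,
        show i + 4 * i = 5 * i by ring, show j + 4 * j = 5 * j by ring, pow_mul, pow_mul, hu, hv]
      simp
  have hp : IsPGroup 5 P25 := fun x => ⟨1, Subtype.ext (by
    obtain ⟨a, b, e⟩ := hall x x.2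
    rw [pow_one, SubmonoidClass.coe_pow, e, ((show Commute (pW uW) (pW vW) from hc).pow_pow a b).mul_pow,
      ← pow_mul, ← pow_mul, mul_comm a, mul_comm b, pow_mul, pow_mul, hu, hv]
    simp)⟩
  obtain ⟨k, hk⟩ := IsPGroup.iff_card.1 hp
  have hdvd : Nat.card P25 ∣ 35942400 := card_Mst ▸ Subgroup.card_dvd_of_le (P25_le.trans Fix5_le)
  have hle : Subgroup.zpowers (pW uW) ≤ P25 := Subgroup.zpowers_le.2 (Subgroup.subset_closure (Or.inl rfl))
  have hlt : 5 < Nat.card P25 := by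
    have hz : Nat.card (Subgroup.zpowers (pW uW)) = 5 := by
      rw [Nat.card_zpowers]; exact orderOf_eq_prime hu hne
    refine lt_of_le_of_ne (hz ▸ Subgroup.card_le_of_le hle) fun e => hnot ?_
    rw [Subgroup.eq_of_le_of_card_ge hle (by rw [hz, ← e])]
    exact Subgroup.subset_closure (Or.inr rfl)
  rw [hk] at hdvd hlt ⊢
  rcases k with _ | _ | _ | k
  · norm_num at hlt
  · norm_num at hlt
  · norm_num
  · exfalso
    have : 5 ^ 3 ∣ 35942400 := (pow_dvd_pow 5 (by omega)).trans hdvd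
    norm_num at this

theorem only_25 {H : Subgroup (Equiv.Perm (Fin 4060))} (hH : H ≤ Fix5) (hc : Nat.card H = 25) : H = P25 := by
  haveI : Fact (Nat.Prime 5) := ⟨by norm_num⟩
  obtain ⟨q, hq⟩ : 25 ∣ Nat.card Fix5 := card_P25 ▸ Subgroup.card_dvd_of_le P25_le
  have hle := card_Fix5_le
  have hpos : 0 < Nat.card Fix5 := Nat.card_pos
  have hfac : (Nat.card Fix5).factorization 5 = 2 := by
    rw [hq, show (25 : ℕ) = 5 ^ 2 by norm_num, Nat.factorization_mul (by norm_num) (by omega),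
      Finsupp.add_apply, Nat.factorization_pow, Finsupp.smul_apply,
      (by norm_num : Nat.Prime 5).factorization_self,
      Nat.factorization_eq_zero_of_not_dvd (by omega : ¬ 5 ∣ q)]
    rfl
  have hs : ∀ {L : Subgroup (Equiv.Perm (Fin 4060))}, L ≤ Fix5 → Nat.card L = 25 →
      Nat.card (L.subgroupOf Fix5) = 5 ^ (Nat.card Fix5).factorization 5 := fun hL hc => by
    rw [Nat.card_congr (Subgroup.subgroupOfEquivOfLe hL).toEquiv, hc, hfac]; norm_num
  have hone : Nat.card (Sylow 5 Fix5) = 1 := by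
    let P : Sylow 5 Fix5 := Sylow.ofCard _ (hs P25_le card_P25)
    have hi : (P : Subgroup Fix5).index = q := by
      have h := (P : Subgroup Fix5).card_mul_index
      rw [show Nat.card (P : Subgroup Fix5) = 25 by
        show Nat.card (P25.subgroupOf Fix5) = 25
        rw [hs P25_le card_P25, hfac]; norm_num, hq] at h
      omega
    have h1 := card_sylow_modEq_one 5 Fix5
    have h2 : Nat.card (Sylow 5 Fix5) ∣ q := hi ▸ P.card_dvd_index
    have h3 := Nat.le_of_dvd (by omega) h2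
    unfold Nat.ModEq at h1
    omega
  haveI := (Nat.card_eq_one_iff_unique.1 hone).1
  have e := congrArg (fun P : Sylow 5 Fix5 => (P : Subgroup Fix5))
    (Subsingleton.elim (Sylow.ofCard _ (hs hH hc)) (Sylow.ofCard _ (hs P25_le card_P25)))
  have e' : H.subgroupOf Fix5 = P25.subgroupOf Fix5 := e
  ext x
  constructor
  · intro hx
    exact (SetLike.ext_iff.1 e' ⟨x, hH hx⟩).1 hx
  · intro hx
    exact (SetLike.ext_iff.1 e' ⟨x, P25_le hx⟩).2 hx

theorem norm_P25 {c : Equiv.Perm (Fin 4060)} (hc : c ∈ Mst) (hQ : c '' Q0 = Q0) : conjS c P25 = P25 := by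
  refine only_25 ?_ ((card_conjS _ _).trans card_P25)
  rintro _ ⟨x, hx, rfl⟩
  have hm := P25_le hx
  have hc1 : c ∈ autG 4060 graph := hc.1
  have hm1 : x ∈ autG 4060 graph := hm.1
  have h3 : c * x * c⁻¹ ∈ autG 4060 graph := mul_mem (mul_mem hc1 hm1) (inv_mem hc1)
  refine ⟨h3, fun i hi => ?_⟩
  show (c * x * c⁻¹) i = i
  have hpre : ((c⁻¹ i : Fin 4060) : ℕ) ∈ 0 :: quad0 := by
    rcases List.mem_cons.1 hi with h0 | hq
    · rw [show i = (0 : Fin 4060) from Fin.ext h0, Mst_fix0 (inv_mem hc)]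
      exact List.mem_cons_self
    · have : i ∈ c '' Q0 := hQ.symm ▸ hq
      obtain ⟨y, hy, rfl⟩ := this
      rw [Equiv.Perm.inv_def, Equiv.symm_apply_apply]
      exact List.mem_cons_of_mem _ hy
  rw [Equiv.Perm.mul_apply, Equiv.Perm.mul_apply, hm.2 _ hpre, Equiv.Perm.inv_def, Equiv.apply_symm_apply]

/-! ### Orbits of a subgroup of order 15600 -/

theorem t_fix_count : {x : Fin 4060 | InR x ∧ tEl x = x}.ncard = 3 := by
  have h := t_ok
  simp only [Bool.and_eq_true, Nat.beq_eq] at h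
  rw [← h.2, cntB_eq_fin, ← Set.ncard_coe_finset]
  congr 1
  ext x
  simp only [Set.mem_ofPred_eq, Finset.coe_filter, Finset.mem_univ, true_and, Bool.and_eq_true, Nat.beq_eq]
  rw [Fin.ext_iff, pW_apply]

theorem orbit_dvd {K : Subgroup (Equiv.Perm (Fin 4060))} (hc : Nat.card K = 15600) (ht : tEl ∈ K) {x : Fin 4060}
    (hx : tEl x = x) : (MulAction.orbit K x).ncard ∣ 1200 ∧
      ((MulAction.orbit K x).ncard) % 13 = {y ∈ MulAction.orbit K x | tEl y = y}.ncard % 13 := by
  classical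
  haveI : Fact (Nat.Prime 13) := ⟨by norm_num⟩
  have h1 := (MulAction.stabilizer K x).index_mul_card
  rw [MulAction.index_stabilizer, hc] at h1
  have h13 : 13 ∣ Nat.card (MulAction.stabilizer K x) := by
    have := orderOf_dvd_natCard (⟨⟨tEl, ht⟩, hx⟩ : MulAction.stabilizer K x)
    rwa [← Subgroup.orderOf_coe, ← Subgroup.orderOf_coe, t_order] at this
  obtain ⟨r, hr⟩ := h13
  rw [hr] at h1
  refine ⟨⟨r, by rw [mul_left_comm] at h1; omega⟩, ?_⟩
  let T : Subgroup K := Subgroup.zpowers ⟨tEl, ht⟩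
  have hT : IsPGroup 13 T := IsPGroup.of_card (n := 1) (by
    rw [pow_one, Nat.card_zpowers, ← Subgroup.orderOf_coe, t_order])
  have hmod := hT.card_modEq_card_fixedPoints (MulAction.orbit K x)
  rw [Nat.card_coe_set_eq] at hmod
  rw [hmod, Nat.card_coe_set_eq]
  have e : {y ∈ MulAction.orbit K x | tEl y = y} =
      Subtype.val '' (MulAction.fixedPoints T (MulAction.orbit K x)) := by
    ext y
    constructor
    · rintro ⟨hy, hty⟩
      refine ⟨⟨y, hy⟩, fun ⟨g, hg⟩ => Subtype.ext ?_, rfl⟩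
      obtain ⟨k, rfl⟩ := Subgroup.mem_zpowers_iff.1 hg
      show ((((⟨tEl, ht⟩ : K) ^ k : K)) : Equiv.Perm (Fin 4060)) y = y
      rw [SubgroupClass.coe_zpow]
      exact Equiv.Perm.zpow_apply_eq_self_of_apply_eq_self hty k
    · rintro ⟨⟨z, hz⟩, hf, rfl⟩
      exact ⟨hz, congrArg Subtype.val (hf ⟨⟨tEl, ht⟩, Subgroup.mem_zpowers _⟩)⟩
  rw [e, Set.ncard_image_of_injective _ Subtype.val_injective]

theorem long_false {K : Subgroup (Equiv.Perm (Fin 4060))} (hK : K ≤ Mst) (hc : Nat.card K = 15600) (ht : tEl ∈ K)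
    {b : ℕ × ℕ × ℕ × ℕ} (hb : longOK b = true)
    (hu : pW (conjW (repW.getD b.1 []) uW) ∈ K) : False := by
  rw [longOK] at hb
  simp only [Bool.and_eq_true, Nat.beq_eq, Nat.blt_eq] at hb
  obtain ⟨⟨⟨hr, hf⟩, hlen⟩, hg⟩ := hb
  have hst : b.2.1 < 4060 := by
    by_contra hge
    rw [bit_eq_testBit] at hr
    have hlt : restSet < 2 ^ 4060 := by decide +kernel
    rw [Nat.testBit_lt_two_pow (hlt.trans_le (Nat.pow_le_pow_right (by norm_num) (by omega)))] at hr
    exact Bool.noConfusion hr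
  obtain ⟨m, hm⟩ := Option.isSome_iff_exists.1 hg
  have hm' : grow [[0], conjW (repW.getD b.1 []) uW] b.2.1 b.2.2.1 b.2.2.2 =
      some (reach [[0], conjW (repW.getD b.1 []) uW] b.2) := by rw [reach, hm]; rfl
  have hge := orbit_ge (t := b.2) hst hm' (H := K) fun g hg => by
    simp only [List.mem_cons, List.not_mem_nil, or_false] at hg
    rcases hg with rfl | rfl
    exacts [ht, hu]
  set x : Fin 4060 := ⟨b.2.1, hst⟩
  have hxfix : tEl x = x := Fin.ext ((pW_apply _ _).trans hf)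
  obtain ⟨hd, hmod⟩ := orbit_dvd hc ht hxfix
  have hsub : {y ∈ MulAction.orbit K x | tEl y = y} ⊆ {y | InR y ∧ tEl y = y} := by
    rintro y ⟨⟨k, rfl⟩, hty⟩
    exact ⟨(InR_smul (hK k.2)).2 hr, hty⟩
  have h3 := (Set.ncard_le_ncard hsub).trans t_fix_count.le
  obtain ⟨r, hr'⟩ := hd
  rcases r with _ | _ | r
  · omega
  · omega
  · nlinarith

theorem good_fix {K : Subgroup (Equiv.Perm (Fin 4060))} (hK : K ≤ Mst) (hc : Nat.card K = 15600)
    (hl : ∀ w ∈ lgW, pW w ∈ K) : K = Stab q1 := by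
  have h := l_ok
  simp only [Bool.and_eq_true] at h
  obtain ⟨⟨⟨hfix, hcov⟩, -⟩, -⟩ := h
  have hd := ldisj_ok
  rw [Bool.and_eq_true] at hd
  have horb : MulAction.orbit K q1 = {q1} := by
    let S : Set (Fin 4060) := MulAction.orbit K q1 \ {q1}
    have hS : S.ncard = pick S LrestT := ncard_cover hcov hd.1 (fun g hg x => by
      have hgq : pW g q1 = q1 := (mem_Stab.1 (show pW g ∈ Stab q1 from
        ⟨(pW_mem g).1, pW_fix (List.all_eq_true.1 hfix g hg)⟩)).2
      have hiff : pW g x = q1 ↔ x = q1 :=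
        ⟨fun e => (pW g).injective (e.trans hgq.symm), fun e => e ▸ hgq⟩
      simp only [S, Set.mem_sdiff, Set.mem_singleton_iff, hiff]
      refine and_congr_left' ⟨fun hm => ?_, fun hm => ?_⟩
      · obtain ⟨k, hk⟩ := hm
        exact ⟨⟨pW g, hl g hg⟩⁻¹ * k, by
          show ((pW g)⁻¹ * (k : Equiv.Perm (Fin 4060))) q1 = x
          rw [Equiv.Perm.mul_apply, show (k : Equiv.Perm (Fin 4060)) q1 = pW g x from hk, Equiv.Perm.inv_def,
            Equiv.symm_apply_apply]⟩
      · obtain ⟨k, rfl⟩ := hm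
        exact ⟨⟨pW g, hl g hg⟩ * k, rfl⟩) (by
      rintro y ⟨⟨k, rfl⟩, hne⟩
      refine ⟨(InR_smul (hK k.2)).2 trans_facts.2.2.2.2.1, Bool.eq_false_iff.2 fun hy => ?_⟩
      rcases (bit_ins _ _ _).1 hy with hy | hy
      · exact hne (Fin.ext hy)
      · rw [bit_zero] at hy; exact Bool.noConfusion hy)
    have hn : (MulAction.orbit K q1).ncard = S.ncard + 1 :=
      (Set.ncard_sdiff_singleton_add_one (MulAction.mem_orbit_self _) (Set.toFinite _)).symm
    have hdvd : (MulAction.orbit K q1).ncard ∣ 15600 := by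
      rw [← MulAction.index_stabilizer, ← hc]
      exact Subgroup.index_dvd_card _
    have hsum : pick S LrestT = 0 := by
      have hmap := l_shape.1
      have hstart := starts.2.1
      rw [hn, hS] at hdvd
      classical
      rw [pick] at hdvd ⊢
      generalize LrestT = L at hmap hdvd
      rcases L with _ | ⟨a1, _ | ⟨a2, _ | ⟨a3, _ | ⟨a4, _ | ⟨a5, _ | ⟨a6, _ | ⟨a7, L⟩⟩⟩⟩⟩⟩⟩ <;>
        simp only [List.map_cons, List.map_nil, List.cons.injEq, reduceCtorEq, and_false, false_and] at hmap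
      obtain ⟨e1, e2, e3, e4, e5, e6, -⟩ := hmap
      simp only [List.map_cons, List.map_nil, List.sum_cons, List.sum_nil, e1, e2, e3, e4, e5, e6] at hdvd ⊢
      split_ifs at hdvd ⊢ <;> first | rfl | (norm_num at hdvd)
    have hS0 : S = ∅ := (Set.ncard_eq_zero (Set.toFinite _)).1 (hS.trans hsum)
    ext y
    refine ⟨fun hy => ?_, fun hy => hy ▸ MulAction.mem_orbit_self _⟩
    by_contra hne
    exact (Set.ext_iff.1 hS0 y).1 ⟨hy, hne⟩
  refine Subgroup.eq_of_le_of_card_ge (fun k hk => mem_Stab.2 ⟨hK hk, ?_⟩) (by rw [hc, card_Stab_q1])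
  have : k q1 ∈ MulAction.orbit K q1 := ⟨⟨k, hk⟩, rfl⟩
  rwa [horb] at this

theorem factorization_Mst_13 : (Nat.card Mst).factorization 13 = 1 := by
  rw [card_Mst, show (35942400 : ℕ) = 13 ^ 1 * 2764800 by norm_num, Nat.factorization_mul (by norm_num) (by norm_num),
    Finsupp.add_apply, Nat.factorization_pow, Finsupp.smul_apply,
    (by norm_num : Nat.Prime 13).factorization_self,
    Nat.factorization_eq_zero_of_not_dvd (by norm_num : ¬ 13 ∣ 2764800)]
  rfl

theorem factorization_Mst_5 : (Nat.card Mst).factorization 5 = 2 := by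
  rw [card_Mst, show (35942400 : ℕ) = 5 ^ 2 * 1437696 by norm_num, Nat.factorization_mul (by norm_num) (by norm_num),
    Finsupp.add_apply, Nat.factorization_pow, Finsupp.smul_apply,
    (by norm_num : Nat.Prime 5).factorization_self,
    Nat.factorization_eq_zero_of_not_dvd (by norm_num : ¬ 5 ∣ 1437696)]
  rfl

theorem bad_cases {j : ℕ} (hj : j < 102) : j = 97 ∨ ∃ b, longOK b = true ∧ b.1 = j := by
  have h := List.all_eq_true.1 bad_cover j (List.mem_range.2 hj)
  rw [Bool.or_eq_true, Nat.beq_eq, List.any_eq_true] at h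
  rcases h with h | ⟨b, hb, e⟩
  · exact Or.inl h
  · refine Or.inr ⟨b, ?_, Nat.eq_of_beq_eq_true e⟩
    simp only [List.mem_append] at hb
    rcases hb with ((hb | hb) | hb) | hb
    exacts [List.all_eq_true.1 long0_ok b hb, List.all_eq_true.1 long1_ok b hb, List.all_eq_true.1 long2_ok b hb,
      List.all_eq_true.1 long3_ok b hb]

/-- **Subgroups of order 15600 are point stabilisers.** -/
theorem exists_K {K : Subgroup (Equiv.Perm (Fin 4060))} (hK : K ≤ Mst) (hc : Nat.card K = 15600) :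
    ∃ q, InR q ∧ K = Stab q := by
  haveI : Fact (Nat.Prime 13) := ⟨by norm_num⟩
  haveI : Fact (Nat.Prime 5) := ⟨by norm_num⟩
  obtain ⟨x, hx⟩ := exists_prime_orderOf_dvd_card' (G := K) 13 (by rw [hc]; norm_num)
  have hxK : Subgroup.zpowers (x : Equiv.Perm (Fin 4060)) ≤ Mst := Subgroup.zpowers_le.2 (hK x.2)
  obtain ⟨g, hg, hgT⟩ := exists_conj factorization_Mst_13 zt_le hxK (by rw [card_zt, pow_one])
    (by rw [Nat.card_zpowers, Subgroup.orderOf_coe, hx, pow_one])
  set K1 := conjS g⁻¹ K with hK1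
  have hK1le : K1 ≤ Mst := conjS_le (inv_mem hg) hK
  have hK1c : Nat.card K1 = 15600 := (card_conjS _ _).trans hc
  have htK1 : tEl ∈ K1 := by
    rw [hK1, mem_conjS, inv_inv]
    have : g * tEl * g⁻¹ ∈ Subgroup.zpowers (x : Equiv.Perm (Fin 4060)) :=
      hgT ▸ ⟨tEl, Subgroup.mem_zpowers _, rfl⟩
    exact Subgroup.zpowers_le.2 x.2 this
  obtain ⟨P, hP⟩ := Sylow.exists_subgroup_card_pow_prime 5 (n := 2) (G := K1) (by rw [hK1c]; norm_num)
  have hPm : Nat.card (P.map K1.subtype) = 5 ^ 2 := by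
    rw [← Nat.card_congr (P.equivMapOfInjective _ K1.subtype_injective).toEquiv, hP]
  obtain ⟨h, hh, hhP⟩ := exists_conj factorization_Mst_5 (P25_le.trans Fix5_le)
    ((Subgroup.map_subtype_le _).trans hK1le) (by rw [card_P25]; norm_num) hPm
  obtain ⟨n, hn, j, hj, hq⟩ := quad_reach hh
  set gj := pW (repW.getD j []) with hgj
  have hgM : gj ∈ Mst := pW_mem _
  set c := (n * gj)⁻¹ * h with hcdef
  have hcQ : c '' Q0 = Q0 := by
    rw [hcdef, Equiv.Perm.coe_mul, Set.image_comp, hq, ← Set.image_comp, ← Equiv.Perm.coe_mul, inv_mul_cancel]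
    simp
  have hcP := norm_P25 (mul_mem (inv_mem (mul_mem hn.1 hgM)) hh) hcQ
  set K2 := conjS n⁻¹ K1 with hK2
  have hP2 : ∀ z ∈ P25, gj * z * gj⁻¹ ∈ K2 := by
    intro z hz
    rw [← hcP] at hz
    obtain ⟨y, hy, rfl⟩ := hz
    have hmem : h * y * h⁻¹ ∈ K1 := Subgroup.map_subtype_le _ (hhP ▸ ⟨y, hy, rfl⟩ : h * y * h⁻¹ ∈ P.map K1.subtype)
    rw [hK2, mem_conjS, inv_inv]
    have e : n * (gj * ((MulAut.conj c).toMonoidHom y) * gj⁻¹) * n⁻¹ = h * y * h⁻¹ := by
      simp only [hcdef, MulEquiv.coe_toMonoidHom, MulAut.conj_apply]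
      group
    rw [e]; exact hmem
  have ht2 : tEl ∈ K2 := by
    rw [hK2, mem_conjS, inv_inv]
    exact Subgroup.zpowers_le.2 htK1 hn.2
  have hK2le : K2 ≤ Mst := conjS_le (inv_mem hn.1) hK1le
  have hK2c : Nat.card K2 = 15600 := (card_conjS _ _).trans hK1c
  have hconj : ∀ w, pW w ∈ P25 → pW (conjW (repW.getD j []) w) ∈ K2 := fun w hw => by
    rw [conjW, pW_append, pW_append, pW_invW]
    exact hP2 _ hw
  have hu : pW uW ∈ P25 := Subgroup.subset_closure (Or.inl rfl)
  have hv : pW vW ∈ P25 := Subgroup.subset_closure (Or.inr rfl)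
  rcases bad_cases hj with rfl | ⟨b, hb, rfl⟩
  · have hK2eq : K2 = Stab q1 := good_fix hK2le hK2c fun w hw => by
      rw [lgW] at hw
      simp only [List.mem_cons, List.not_mem_nil, or_false] at hw
      rcases hw with rfl | rfl | rfl
      exacts [ht2, hconj _ hu, hconj _ hv]
    refine ⟨(g * n) q1, (InR_smul (mul_mem hg hn.1)).2 trans_facts.2.2.2.2.1, ?_⟩
    rw [← Stab_smul (mul_mem hg hn.1), ← hK2eq]
    ext y
    rw [mem_conjS, hK2, mem_conjS, hK1, mem_conjS]
    simp [mul_assoc]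
  · exact (long_false hK2le hK2c ht2 hb (hconj _ hu)).elim

/-- A point stabiliser fixes one point of the second suborbit. -/
theorem Stab_fix_rest {p q : Fin 4060} (hp : InR p) (hq : InR q) (h : ∀ σ ∈ Stab p, σ q = q) : q = p := by
  obtain ⟨τ, hτ, rfl⟩ := trans_rest hp
  suffices key : ∀ x : Fin 4060, InR x → (∀ σ ∈ Stab q1, σ x = x) → x = q1 by
    have := key (τ⁻¹ q) ((InR_smul (inv_mem hτ)).2 hq) fun σ hσ => by
      have hm : τ * σ * τ⁻¹ ∈ Stab (τ q1) := Stab_smul hτ q1 ▸ ⟨σ, hσ, rfl⟩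
      have e := h _ hm
      rw [Equiv.Perm.mul_apply, Equiv.Perm.mul_apply] at e
      exact τ.injective (e.trans (τ.apply_symm_apply q).symm)
    rw [← this, Equiv.Perm.inv_def, Equiv.apply_symm_apply]
  intro x hx hfix
  by_contra hne
  have h' := l_ok
  simp only [Bool.and_eq_true] at h'
  have hd := ldisj_ok
  rw [Bool.and_eq_true] at hd
  have hS : ({x} : Set (Fin 4060)).ncard = pick {x} LrestT := ncard_cover h'.1.1.2 hd.1 (fun g hg y => by
    have hg' : pW g ∈ Stab q1 := ⟨(pW_mem _).1, pW_fix (List.all_eq_true.1 h'.1.1.1 g hg)⟩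
    constructor
    · intro hy
      exact (pW g).injective ((show pW g y = x from hy).trans (hfix _ hg').symm)
    · rintro rfl
      exact hfix _ hg') (by
    rintro y rfl
    refine ⟨hx, Bool.eq_false_iff.2 fun hy => ?_⟩
    rcases (bit_ins _ _ _).1 hy with hy | hy
    · exact hne (Fin.ext hy)
    · rw [bit_zero] at hy; exact Bool.noConfusion hy)
  rw [Set.ncard_singleton] at hS
  have hk : ∀ t ∈ LrestT, 10 ≤ t.2.2 + 1 := fun t ht => by
    have : t.2.2 + 1 ∈ LrestT.map (fun t => t.2.2 + 1) := List.mem_map.2 ⟨t, ht, rfl⟩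
    rw [l_shape.1] at this
    simp only [List.mem_cons, List.not_mem_nil, or_false] at this
    omega
  rw [pick] at hS
  classical
  generalize LrestT = L at hS hk
  induction L with
  | nil => simp at hS
  | cons a L ih =>
    rw [List.map_cons, List.sum_cons] at hS
    have := hk a List.mem_cons_self
    split_ifs at hS with hh
    · omega
    · exact ih (by simpa using hS) fun t ht => hk t (List.mem_cons_of_mem _ ht)

end Cfsg.Agent.RuRec
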