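import Cfsg.Agent.Lib.RuRec.Iso
import Cfsg.Agent.Lib.RuRec.SubJ
import Cfsg.Agent.Lib.RuRec.SubK
import Cfsg.Agent.Lib.RuRec.CheckA
import Cfsg.Agent.Lib.RigidGraph.Ru.FourRu
import Mathlib.Combinatorics.Enumerative.DoubleCounting
import Mathlib.GroupTheory.GroupAction.Blocks

/-! A rank three group on 4060 points with the given stabiliser is the group of the model graph. -/

set_option autoImplicit false
set_option maxRecDepth 100000

namespace Cfsg.Agent.RuRec

open Cfsg.Agent.RigidGraph Cfsg.Agent.RigidGraph.Ru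
open scoped Pointwise

attribute [local irreducible] dom restSet graph rowsB JorbT LrestT LdomT jW lgW pW pg gl nodesT0 oE reach unionT coverOK disjT

theorem row_bits : ([1, 743].all fun a => !bit (graph.B.get a) a) = true ∧
    (bit (graph.B.get 1) 2 && bit (graph.B.get 1) 4 && bit (graph.B.get 1) 87 && !bit (graph.B.get 1) 345 &&
    bit (graph.B.get 743) 1 && !bit (graph.B.get 743) 2 && bit (graph.B.get 743) 90 &&
    !bit (graph.B.get 743) 19 && !bit (graph.B.get 743) 20 && bit (graph.B.get 743) 21 &&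
    !bit (graph.B.get 743) 23 && !bit (graph.B.get 743) 24 && !bit (graph.B.get 743) 71 &&
    !bit (graph.B.get 743) 0) = true := by
  unfold graph rowsB
  decide +kernel

theorem graph_symm_base {a : Fin 4060} (ha : a = 0 ∨ a = p1 ∨ a = q1) (y : Fin 4060) :
    Adj graph a y ↔ Adj graph y a := by
  have h := rows_ok
  simp only [List.all_cons, List.all_nil, Bool.and_true, Bool.and_eq_true] at h
  rcases ha with rfl | rfl | rfl
  · exact Bool.eq_iff_iff.1 (eqB_iff.1 (allB_spec h.1 y.2))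
  · exact Bool.eq_iff_iff.1 (eqB_iff.1 (allB_spec h.2.1 y.2))
  · exact Bool.eq_iff_iff.1 (eqB_iff.1 (allB_spec h.2.2 y.2))

theorem graph_smul {σ : Equiv.Perm (Fin 4060)} (hσ : σ ∈ Mst) (x y : Fin 4060) :
    Adj graph (σ x) (σ y) ↔ Adj graph x y := hσ.1 x y

theorem adj_zero' {y : Fin 4060} : Adj graph ((0 : Fin 4060) : ℕ) y ↔ InD y := adj_zero

theorem reach_base (x : Fin 4060) : ∃ σ ∈ Mst, ∃ a, (a = 0 ∨ a = p1 ∨ a = q1) ∧ σ a = x := by
  rcases point_cases x with rfl | h | h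
  · exact ⟨1, one_mem _, 0, Or.inl rfl, rfl⟩
  · obtain ⟨σ, hσ, e⟩ := trans_dom h
    exact ⟨σ, hσ, p1, Or.inr (Or.inl rfl), e⟩
  · obtain ⟨σ, hσ, e⟩ := trans_rest h
    exact ⟨σ, hσ, q1, Or.inr (Or.inr rfl), e⟩

theorem graph_symm (x y : Fin 4060) : Adj graph x y ↔ Adj graph y x := by
  obtain ⟨σ, hσ, a, ha, rfl⟩ := reach_base x
  obtain ⟨z, rfl⟩ : ∃ z, σ z = y := ⟨σ.symm y, σ.apply_symm_apply y⟩
  rw [graph_smul hσ, graph_smul hσ, graph_symm_base ha]

open Classical in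
theorem pick_J (S : Set (Fin 4060)) : pick S JorbT =
    (if (⟨2, by norm_num⟩ : Fin 4060) ∈ S then 10 else 0) + (if (⟨4, by norm_num⟩ : Fin 4060) ∈ S then 80 else 0) +
    (if (⟨87, by norm_num⟩ : Fin 4060) ∈ S then 640 else 0) + (if (⟨345, by norm_num⟩ : Fin 4060) ∈ S then 1024 else 0) := by
  have h1 := j_shape
  have h2 := starts.1
  rw [pick]
  generalize JorbT = L at h1 h2
  rcases L with _ | ⟨a1, _ | ⟨a2, _ | ⟨a3, _ | ⟨a4, _ | ⟨a5, L⟩⟩⟩⟩⟩ <;>
    simp only [List.map_cons, List.map_nil, List.cons.injEq, reduceCtorEq, and_false, and_true] at h1 h2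
  obtain ⟨e1, e2, e3, e4⟩ := h1
  obtain ⟨f1, f2, f3, f4⟩ := h2
  simp only [List.map_cons, List.map_nil, List.sum_cons, List.sum_nil, e1, e2, e3, e4, f1, f2, f3, f4,
    add_zero, add_assoc]
  simp

open Classical in
theorem pick_D (S : Set (Fin 4060)) : pick S LdomT =
    (if (⟨1, by norm_num⟩ : Fin 4060) ∈ S then 390 else 0) + (if (⟨2, by norm_num⟩ : Fin 4060) ∈ S then 975 else 0) +
    (if (⟨90, by norm_num⟩ : Fin 4060) ∈ S then 390 else 0) := by
  have h1 := l_shape.2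
  have h2 := starts.2.2
  rw [pick]
  generalize LdomT = L at h1 h2
  rcases L with _ | ⟨a1, _ | ⟨a2, _ | ⟨a3, _ | ⟨a4, L⟩⟩⟩⟩ <;>
    simp only [List.map_cons, List.map_nil, List.cons.injEq, reduceCtorEq, and_false, and_true] at h1 h2
  obtain ⟨e1, e2, e3⟩ := h1
  obtain ⟨f1, f2, f3⟩ := h2
  simp only [List.map_cons, List.map_nil, List.sum_cons, List.sum_nil, e1, e2, e3, f1, f2, f3, add_zero, add_assoc]
  simp

open Classical in
theorem pick_R (S : Set (Fin 4060)) : pick S LrestT =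
    (if (⟨19, by norm_num⟩ : Fin 4060) ∈ S then 325 else 0) + (if (⟨20, by norm_num⟩ : Fin 4060) ∈ S then 300 else 0) +
    (if (⟨21, by norm_num⟩ : Fin 4060) ∈ S then 975 else 0) + (if (⟨23, by norm_num⟩ : Fin 4060) ∈ S then 325 else 0) +
    (if (⟨24, by norm_num⟩ : Fin 4060) ∈ S then 300 else 0) + (if (⟨71, by norm_num⟩ : Fin 4060) ∈ S then 78 else 0) := by
  have h1 := l_shape.1
  have h2 := starts.2.1
  rw [pick]
  generalize LrestT = L at h1 h2
  rcases L with _ | ⟨a1, _ | ⟨a2, _ | ⟨a3, _ | ⟨a4, _ | ⟨a5, _ | ⟨a6, _ | ⟨a7, L⟩⟩⟩⟩⟩⟩⟩ <;>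
    simp only [List.map_cons, List.map_nil, List.cons.injEq, reduceCtorEq, and_false, and_true] at h1 h2
  obtain ⟨e1, e2, e3, e4, e5, e6⟩ := h1
  obtain ⟨f1, f2, f3, f4, f5, f6⟩ := h2
  simp only [List.map_cons, List.map_nil, List.sum_cons, List.sum_nil, e1, e2, e3, e4, e5, e6, f1, f2, f3, f4, f5, f6,
    add_zero, add_assoc]
  simp

/-- The data of the recognition. -/
structure Setup (G Ω : Type*) [Group G] [MulAction G Ω] where
  finite : Finite G
  finiteΩ : Finite Ω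
  faithful : FaithfulSMul G Ω
  trans : MulAction.IsPretransitive G Ω
  card : Nat.card Ω = 4060
  a : Ω
  φ : MulAction.stabilizer G a ≃* Mst
  b : Ω
  c : Ω
  hb : (MulAction.orbit (MulAction.stabilizer G a) b).ncard = 1755
  hc : (MulAction.orbit (MulAction.stabilizer G a) c).ncard = 2304

namespace Setup

variable {G Ω : Type*} [Group G] [MulAction G Ω] (S : Setup G Ω)

/-- The point stabiliser. -/
abbrev Ga : Subgroup G := MulAction.stabilizer G S.a

/-- The point stabiliser on the model. -/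
noncomputable def ψ : S.Ga →* Equiv.Perm (Fin 4060) := Mst.subtype.comp S.φ.toMonoidHom

theorem ψ_mem (k : S.Ga) : S.ψ k ∈ Mst := (S.φ k).2

theorem ψ_surj {σ : Equiv.Perm (Fin 4060)} (h : σ ∈ Mst) : ∃ k, S.ψ k = σ :=
  ⟨S.φ.symm ⟨σ, h⟩, by
    show ((S.φ (S.φ.symm ⟨σ, h⟩) : Mst) : Equiv.Perm (Fin 4060)) = σ
    rw [MulEquiv.apply_symm_apply]⟩

theorem ψ_inj : Function.Injective S.ψ := Mst.subtype_injective.comp S.φ.injective

/-- The image of the stabiliser of a further point. -/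
noncomputable def I (x : Ω) : Subgroup (Equiv.Perm (Fin 4060)) := (MulAction.stabilizer S.Ga x).map S.ψ

theorem I_le (x : Ω) : S.I x ≤ Mst := by
  rintro _ ⟨k, -, rfl⟩
  exact S.ψ_mem k

theorem card_Ga : Nat.card S.Ga = 35942400 := (Nat.card_congr S.φ.toEquiv).trans card_Mst

theorem card_I (x : Ω) : Nat.card (S.I x) * (MulAction.orbit S.Ga x).ncard = 35942400 := by
  rw [I, ← Nat.card_congr ((MulAction.stabilizer S.Ga x).equivMapOfInjective S.ψ S.ψ_inj).toEquiv,
    ← MulAction.index_stabilizer, Subgroup.card_mul_index, S.card_Ga]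

theorem orbit_a : MulAction.orbit S.Ga S.a = {S.a} :=
  Set.eq_singleton_iff_unique_mem.2 ⟨MulAction.mem_orbit_self _, by rintro _ ⟨k, rfl⟩; exact k.2⟩

theorem a_notMem {y : Ω} (hy : (MulAction.orbit S.Ga y).ncard ≠ 1) : S.a ∉ MulAction.orbit S.Ga y := fun h => by
  rw [← MulAction.orbit_eq_iff, S.orbit_a] at h
  exact hy (by rw [← h, Set.ncard_singleton])

/-- The three suborbits. -/
theorem cases_Ω (x : Ω) : x = S.a ∨ x ∈ MulAction.orbit S.Ga S.b ∨ x ∈ MulAction.orbit S.Ga S.c := by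
  have := S.finiteΩ
  have hd : Disjoint (MulAction.orbit S.Ga S.b) (MulAction.orbit S.Ga S.c) :=
    Set.disjoint_left.2 fun y h1 h2 => by
      have := congrArg Set.ncard ((MulAction.orbit_eq_iff.2 h1).symm.trans (MulAction.orbit_eq_iff.2 h2))
      rw [S.hb, S.hc] at this
      omega
  have hall : insert S.a (MulAction.orbit S.Ga S.b ∪ MulAction.orbit S.Ga S.c) = Set.univ := by
    refine Set.eq_of_subset_of_ncard_le (Set.subset_univ _) ?_
    rw [Set.ncard_univ, S.card, Set.ncard_insert_of_notMem (fun h => h.elim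
      (S.a_notMem (by rw [S.hb]; norm_num)) (S.a_notMem (by rw [S.hc]; norm_num))), Set.ncard_union_eq hd, S.hb, S.hc]
  exact hall.ge (Set.mem_univ x)

/-- The number of a point. -/
def Num (y : Ω) (u : Fin 4060) : Prop :=
  (y = S.a ∧ u = 0) ∨ (y ∈ MulAction.orbit S.Ga S.b ∧ InD u ∧ S.I y = Stab u) ∨
    (y ∈ MulAction.orbit S.Ga S.c ∧ InR u ∧ S.I y = Stab u)

theorem exists_num (y : Ω) : ∃ u, S.Num y u := by
  rcases S.cases_Ω y with h | h | h
  · exact ⟨0, Or.inl ⟨h, rfl⟩⟩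
  · have hc := S.card_I y
    rw [MulAction.orbit_eq_iff.2 h, S.hb] at hc
    obtain ⟨p, hp, e⟩ := exists_J (S.I_le y) (by omega)
    exact ⟨p, Or.inr (Or.inl ⟨h, hp, e⟩)⟩
  · have hc := S.card_I y
    rw [MulAction.orbit_eq_iff.2 h, S.hc] at hc
    obtain ⟨p, hp, e⟩ := exists_K (S.I_le y) (by omega)
    exact ⟨p, Or.inr (Or.inr ⟨h, hp, e⟩)⟩

theorem num_unique {y : Ω} {u v : Fin 4060} (hu : S.Num y u) (hv : S.Num y v) : u = v := by
  have na : ∀ {z : Ω}, z ∈ MulAction.orbit S.Ga S.b → z ≠ S.a := fun h e =>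
    S.a_notMem (by rw [S.hb]; norm_num) (e ▸ h)
  have nc : ∀ {z : Ω}, z ∈ MulAction.orbit S.Ga S.c → z ≠ S.a := fun h e =>
    S.a_notMem (by rw [S.hc]; norm_num) (e ▸ h)
  have nbc : ∀ {z : Ω}, z ∈ MulAction.orbit S.Ga S.b → z ∈ MulAction.orbit S.Ga S.c → False := fun h1 h2 => by
    have := congrArg Set.ncard ((MulAction.orbit_eq_iff.2 h1).symm.trans (MulAction.orbit_eq_iff.2 h2))
    rw [S.hb, S.hc] at this
    omega
  rcases hu with ⟨e, rfl⟩ | ⟨h, hu, e⟩ | ⟨h, hu, e⟩ <;> rcases hv with ⟨e', rfl⟩ | ⟨h', hv, e'⟩ | ⟨h', hv, e'⟩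
  · rfl
  · exact absurd e (na h')
  · exact absurd e (nc h')
  · exact absurd e' (na h)
  · exact (Stab_fix_dom hu hv fun σ hσ => by
      rw [← e, e'] at hσ
      exact (mem_Stab.1 hσ).2).symm
  · exact (nbc h h').elim
  · exact absurd e' (nc h)
  · exact (nbc h' h).elim
  · exact (Stab_fix_rest hu hv fun σ hσ => by
      rw [← e, e'] at hσ
      exact (mem_Stab.1 hσ).2).symm

theorem num_smul (k : S.Ga) {y : Ω} {u : Fin 4060} (h : S.Num y u) : S.Num (k • y) (S.ψ k u) := by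
  have hI : S.I (k • y) = conjS (S.ψ k) (S.I y) := by
    ext σ
    rw [mem_conjS]
    constructor
    · rintro ⟨l, hl, rfl⟩
      refine ⟨k⁻¹ * l * k, ?_, by simp [map_mul, mul_assoc]⟩
      show (k⁻¹ * l * k) • y = y
      rw [mul_smul, mul_smul, show l • k • y = k • y from hl, inv_smul_smul]
    · rintro ⟨l, hl, e⟩
      refine ⟨k * l * k⁻¹, ?_, ?_⟩
      · show (k * l * k⁻¹) • k • y = k • y
        rw [mul_smul, inv_smul_smul, mul_smul, show l • y = y from hl]
      · rw [map_mul, map_mul, map_inv, e]; group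
  have horb : ∀ z, y ∈ MulAction.orbit S.Ga z → k • y ∈ MulAction.orbit S.Ga z := by
    rintro z ⟨l, rfl⟩
    exact ⟨k * l, mul_smul k l z⟩
  rcases h with ⟨rfl, rfl⟩ | ⟨h, hu, e⟩ | ⟨h, hu, e⟩
  · exact Or.inl ⟨k.2, Mst_fix0 (S.ψ_mem k)⟩
  · exact Or.inr (Or.inl ⟨horb _ h, (InD_smul (S.ψ_mem k)).2 hu, by rw [hI, e, Stab_smul (S.ψ_mem k)]⟩)
  · exact Or.inr (Or.inr ⟨horb _ h, (InR_smul (S.ψ_mem k)).2 hu, by rw [hI, e, Stab_smul (S.ψ_mem k)]⟩)

/-- The numbering. -/
noncomputable def f (y : Ω) : Fin 4060 := (S.exists_num y).choose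

theorem f_spec (y : Ω) : S.Num y (S.f y) := (S.exists_num y).choose_spec

theorem f_smul (k : S.Ga) (y : Ω) : S.f (k • y) = S.ψ k (S.f y) :=
  S.num_unique (S.f_spec _) (S.num_smul k (S.f_spec y))

theorem f_bij : Function.Bijective S.f := by
  have := S.finiteΩ
  have hfa : S.f S.a = 0 := S.num_unique (S.f_spec _) (Or.inl ⟨rfl, rfl⟩)
  have hsur : Function.Surjective S.f := by
    intro u
    rcases point_cases u with rfl | h | h
    · exact ⟨_, hfa⟩
    · have hb : InD (S.f S.b) := by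
        rcases S.f_spec S.b with ⟨e, -⟩ | ⟨-, h, -⟩ | ⟨h, -, -⟩
        · have := S.hb
          rw [e, S.orbit_a, Set.ncard_singleton] at this
          omega
        · exact h
        · have := congrArg Set.ncard (MulAction.orbit_eq_iff.2 h)
          rw [S.hb, S.hc] at this
          omega
      obtain ⟨σ, hσ, e⟩ := trans_dom hb
      obtain ⟨τ, hτ, e'⟩ := trans_dom h
      obtain ⟨k, hk⟩ := S.ψ_surj (mul_mem hτ (inv_mem hσ))
      refine ⟨k • S.b, ?_⟩
      rw [S.f_smul, hk, ← e, Equiv.Perm.mul_apply, Equiv.Perm.inv_def, Equiv.symm_apply_apply, e']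
    · have hc : InR (S.f S.c) := by
        rcases S.f_spec S.c with ⟨e, -⟩ | ⟨h, -, -⟩ | ⟨-, h, -⟩
        · have := S.hc
          rw [e, S.orbit_a, Set.ncard_singleton] at this
          omega
        · have := congrArg Set.ncard (MulAction.orbit_eq_iff.2 h)
          rw [S.hb, S.hc] at this
          omega
        · exact h
      obtain ⟨σ, hσ, e⟩ := trans_rest hc
      obtain ⟨τ, hτ, e'⟩ := trans_rest h
      obtain ⟨k, hk⟩ := S.ψ_surj (mul_mem hτ (inv_mem hσ))
      refine ⟨k • S.c, ?_⟩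
      rw [S.f_smul, hk, ← e, Equiv.Perm.mul_apply, Equiv.Perm.inv_def, Equiv.symm_apply_apply, e']
  exact hsur.bijective_of_nat_card_le (by rw [Nat.card_fin, S.card])

/-- The points by number. -/
noncomputable def E : Fin 4060 ≃ Ω := (Equiv.ofBijective S.f S.f_bij).symm

theorem f_E (u : Fin 4060) : S.f (S.E u) = u := (Equiv.ofBijective S.f S.f_bij).apply_symm_apply u

theorem E_smul (k : S.Ga) (u : Fin 4060) : k • S.E u = S.E (S.ψ k u) := by
  apply S.f_bij.1
  rw [S.f_smul, S.f_E, S.f_E]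

theorem E_zero : S.E 0 = S.a := by
  apply S.f_bij.1
  rw [S.f_E]
  exact S.num_unique (Or.inl ⟨rfl, rfl⟩) (S.f_spec _)

theorem E_mem_dom {u : Fin 4060} (hu : InD u) : S.E u ∈ MulAction.orbit S.Ga S.b := by
  rcases S.f_spec (S.E u) with ⟨-, e⟩ | ⟨h, -, -⟩ | ⟨-, h, -⟩
  · rw [S.f_E] at e; exact absurd e (InD_ne hu)
  · exact h
  · rw [S.f_E] at h; exact absurd hu (InR_iff.1 h).2

/-- Adjacency. -/
def Adj' (x y : Ω) : Prop := ∃ g : G, g • S.a = x ∧ g • S.E p1 = y

theorem adj_smul {x y : Ω} (g : G) : S.Adj' (g • x) (g • y) ↔ S.Adj' x y := by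
  constructor
  · rintro ⟨h, h1, h2⟩
    exact ⟨g⁻¹ * h, by rw [mul_smul, h1, inv_smul_smul], by rw [mul_smul, h2, inv_smul_smul]⟩
  · rintro ⟨h, h1, h2⟩
    exact ⟨g * h, by rw [mul_smul, h1], by rw [mul_smul, h2]⟩

/-- Adjacency on numbers. -/
def A (u v : Fin 4060) : Prop := S.Adj' (S.E u) (S.E v)

theorem A_smul {σ : Equiv.Perm (Fin 4060)} (hσ : σ ∈ Mst) (u v : Fin 4060) : S.A (σ u) (σ v) ↔ S.A u v := by
  obtain ⟨k, rfl⟩ := S.ψ_surj hσ
  rw [A, A, ← S.E_smul, ← S.E_smul]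
  exact S.adj_smul (k : G)

theorem A_zero {v : Fin 4060} : S.A 0 v ↔ InD v := by
  rw [A, S.E_zero]
  constructor
  · rintro ⟨g, h1, h2⟩
    have h2' : (⟨g, h1⟩ : S.Ga) • S.E p1 = S.E v := h2
    rw [S.E_smul] at h2'
    rw [← S.E.injective h2']
    exact (InD_smul (S.ψ_mem _)).2 InD_p1
  · intro h
    obtain ⟨σ, hσ, rfl⟩ := trans_dom h
    obtain ⟨k, rfl⟩ := S.ψ_surj hσ
    exact ⟨k, k.2, S.E_smul k p1⟩

theorem A_irrefl (u : Fin 4060) : ¬ S.A u u := fun ⟨g, h1, h2⟩ => by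
  have h := smul_left_cancel g (h2.trans h1.symm)
  rw [← S.E_zero] at h
  exact InD_ne InD_p1 (S.E.injective h)

theorem A_symm {u v : Fin 4060} (h : S.A u v) : S.A v u := by
  have := S.trans
  have := S.finite
  have := S.finiteΩ
  obtain ⟨g0, hg0⟩ := MulAction.exists_smul_eq G (S.E p1) S.a
  set y0 := g0 • S.a with hy0
  have hcard : (MulAction.orbit S.Ga y0).ncard = 1755 := by
    have h1 := Subgroup.card_mul_index (MulAction.stabilizer S.Ga y0)
    rw [MulAction.index_stabilizer, S.card_Ga] at h1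
    have h2 : Nat.card (MulAction.stabilizer S.Ga y0) = Nat.card (MulAction.stabilizer S.Ga (S.E p1)) := by
      refine Nat.card_congr
        { toFun := fun k => ⟨⟨g0⁻¹ * ((k : S.Ga) : G) * g0, ?_⟩, ?_⟩
          invFun := fun k => ⟨⟨g0 * ((k : S.Ga) : G) * g0⁻¹, ?_⟩, ?_⟩
          left_inv := fun k => Subtype.ext (Subtype.ext (by simp only; group))
          right_inv := fun k => Subtype.ext (Subtype.ext (by simp only; group)) }
      · show (g0⁻¹ * ((k : S.Ga) : G) * g0) • S.a = S.a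
        rw [mul_smul, mul_smul, ← hy0, show ((k : S.Ga) : G) • y0 = y0 from k.2, hy0, inv_smul_smul]
      · show (g0⁻¹ * ((k : S.Ga) : G) * g0) • S.E p1 = S.E p1
        rw [mul_smul, mul_smul, hg0, show ((k : S.Ga) : G) • S.a = S.a from (k : S.Ga).2, ← hg0,
          inv_smul_smul]
      · show (g0 * ((k : S.Ga) : G) * g0⁻¹) • S.a = S.a
        conv_lhs => rw [← hg0, mul_smul, mul_smul, inv_smul_smul,
          show ((k : S.Ga) : G) • S.E p1 = S.E p1 from k.2, hg0]
      · show (g0 * ((k : S.Ga) : G) * g0⁻¹) • y0 = y0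
        rw [hy0, mul_smul, mul_smul, inv_smul_smul, show ((k : S.Ga) : G) • S.a = S.a from (k : S.Ga).2]
    have h3 := Subgroup.card_mul_index (MulAction.stabilizer S.Ga (S.E p1))
    rw [MulAction.index_stabilizer, S.card_Ga, MulAction.orbit_eq_iff.2 (S.E_mem_dom InD_p1), S.hb, ← h2] at h3
    exact Nat.eq_of_mul_eq_mul_left Nat.card_pos (h1.trans h3.symm)
  obtain ⟨w, hw⟩ := S.E.surjective y0
  have hwD : InD w := by
    rcases S.f_spec y0 with ⟨e, -⟩ | ⟨-, h, -⟩ | ⟨h, -, -⟩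
    · rw [e, S.orbit_a, Set.ncard_singleton] at hcard; omega
    · rwa [← hw, S.f_E] at h
    · rw [MulAction.orbit_eq_iff.2 h, S.hc] at hcard; omega
  obtain ⟨σ, hσ, e⟩ := trans_dom hwD
  obtain ⟨k, rfl⟩ := S.ψ_surj hσ
  -- the base pair reversed
  have hbase : S.Adj' (S.E p1) S.a := by
    have h2 : S.Adj' (S.E w) S.a := ⟨g0, hw.symm, hg0⟩
    rwa [← e, ← S.E_smul, ← show (k : G) • S.a = S.a from k.2, show k • S.E p1 = (k : G) • S.E p1 from rfl,
      S.adj_smul] at h2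
  obtain ⟨g, h1, h2⟩ := h
  show S.Adj' (S.E v) (S.E u)
  rw [← h1, ← h2, S.adj_smul]
  exact hbase

theorem A_comm (u v : Fin 4060) : S.A u v ↔ S.A v u := ⟨S.A_symm, S.A_symm⟩

/-- Neighbours in a part. -/
def nb (u : Fin 4060) (P : Fin 4060 → Prop) : Set (Fin 4060) := {v | S.A u v ∧ P v}

theorem nb_smul {σ : Equiv.Perm (Fin 4060)} (hσ : σ ∈ Mst) (u : Fin 4060) {P : Fin 4060 → Prop}
    (hP : ∀ v, P (σ v) ↔ P v) : (S.nb (σ u) P).ncard = (S.nb u P).ncard := by
  rw [← Set.ncard_image_of_injective (S.nb u P) σ.injective]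
  congr 1
  ext v
  constructor
  · intro hv
    refine ⟨σ.symm v, ?_, σ.apply_symm_apply v⟩
    have h1 := hv.1
    have h2 := hv.2
    rw [← σ.apply_symm_apply v, S.A_smul hσ] at h1
    rw [← σ.apply_symm_apply v, hP] at h2
    exact ⟨h1, h2⟩
  · rintro ⟨w, hw, rfl⟩
    exact ⟨(S.A_smul hσ _ _).2 hw.1, (hP _).2 hw.2⟩

theorem nbr_card (u : Fin 4060) : {v | S.A u v}.ncard = 1755 := by
  have := S.trans
  obtain ⟨g, hg⟩ := MulAction.exists_smul_eq G S.a (S.E u)
  have e : S.E '' {v | S.A u v} = g • (S.E '' {v | InD v}) := by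
    ext y
    obtain ⟨v, rfl⟩ := S.E.surjective y
    rw [Set.mem_smul_set_iff_inv_smul_mem, S.E.injective.mem_set_image]
    obtain ⟨w, hw⟩ := S.E.surjective (g⁻¹ • S.E v)
    rw [← hw, S.E.injective.mem_set_image]
    show S.Adj' (S.E u) (S.E v) ↔ InD w
    rw [← S.A_zero, A, S.E_zero, hw, ← hg, ← S.adj_smul g (x := S.a), smul_inv_smul]
  rw [← Set.ncard_image_of_injective _ S.E.injective, e, Set.ncard_smul_set,
    Set.ncard_image_of_injective _ S.E.injective, ncard_dom]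

theorem nbr_split (u : Fin 4060) : (S.nb u (· = 0)).ncard + (S.nb u InD).ncard + (S.nb u InR).ncard = 1755 := by
  rw [← S.nbr_card u, ← Set.ncard_union_eq, ← Set.ncard_union_eq]
  · congr 1
    ext v
    constructor
    · rintro ((h | h) | h) <;> exact h.1
    · intro h
      rcases point_cases v with e | e | e
      exacts [Or.inl (Or.inl ⟨h, e⟩), Or.inl (Or.inr ⟨h, e⟩), Or.inr ⟨h, e⟩]
  · refine Set.disjoint_left.2 ?_
    rintro v (⟨-, e⟩ | ⟨-, e⟩) ⟨-, h⟩
    · exact (InR_iff.1 h).1 e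
    · exact (InR_iff.1 h).2 e
  · exact Set.disjoint_left.2 fun v h1 h2 => InD_ne h2.2 h1.2

theorem nb_zero_dom {u : Fin 4060} (hu : InD u) : (S.nb u (· = 0)).ncard = 1 := by
  rw [show S.nb u (· = 0) = {0} from Set.ext fun v =>
    ⟨fun h => h.2, fun h => ⟨(show v = 0 from h) ▸ S.A_symm (S.A_zero.2 hu), h⟩⟩, Set.ncard_singleton]

theorem nb_zero_rest {u : Fin 4060} (hu : InR u) : (S.nb u (· = 0)).ncard = 0 := by
  rw [show S.nb u (· = 0) = ∅ from Set.eq_empty_iff_forall_notMem.2 fun v hv => by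
    have h1 : S.A u 0 := hv.2 ▸ hv.1
    exact (InR_iff.1 hu).2 (S.A_zero.1 (S.A_symm h1)), Set.ncard_empty]

theorem inv_nb {u : Fin 4060} {P : Fin 4060 → Prop} (hP : ∀ σ ∈ Mst, ∀ v, P (σ v) ↔ P v) {w : List ℕ}
    (hw : pW w u = u) (v : Fin 4060) : pW w v ∈ S.nb u P ↔ v ∈ S.nb u P := by
  have h := S.A_smul (pW_mem w) u v
  rw [hw] at h
  exact and_congr h (hP _ (pW_mem w) v)

theorem jW_fix {w : List ℕ} (hw : w ∈ jW) : pW w p1 = p1 := by
  have h := j_ok
  simp only [Bool.and_eq_true] at h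
  exact pW_fix (List.all_eq_true.1 h.1.1 w hw) p1 (by simp)

theorem lgW_fix {w : List ℕ} (hw : w ∈ lgW) : pW w q1 = q1 := by
  have h := l_ok
  simp only [Bool.and_eq_true] at h
  exact pW_fix (List.all_eq_true.1 h.1.1.1 w hw) q1 (by simp)

theorem not_bit_singleton {x v : Fin 4060} (h : v ≠ x) : bit (ins 0 (x : ℕ)) v = false :=
  Bool.eq_false_iff.2 fun hy => by
    rcases (bit_ins _ _ _).1 hy with hy | hy
    · exact h (Fin.ext hy)
    · rw [bit_zero] at hy; exact Bool.noConfusion hy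

theorem card_p1_dom : (S.nb p1 InD).ncard = pick (S.nb p1 InD) JorbT := by
  have h := j_ok
  simp only [Bool.and_eq_true] at h
  refine ncard_cover (S := S.nb p1 InD) h.1.2 jdisj_ok (fun g hg => S.inv_nb (fun σ hσ v => InD_smul hσ) (jW_fix hg)) fun v hv =>
    ⟨hv.2, not_bit_singleton (x := p1) (v := v) fun e => S.A_irrefl p1 (e ▸ hv.1)⟩

theorem card_q1_dom : (S.nb q1 InD).ncard = pick (S.nb q1 InD) LdomT := by
  have h := l_ok
  simp only [Bool.and_eq_true] at h
  have hd := ldisj_ok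
  rw [Bool.and_eq_true] at hd
  exact ncard_cover (S := S.nb q1 InD) h.1.2 hd.2 (fun g hg => S.inv_nb (fun σ hσ v => InD_smul hσ) (lgW_fix hg)) fun v hv =>
    ⟨hv.2, bit_zero _⟩

theorem card_q1_rest : (S.nb q1 InR).ncard = pick (S.nb q1 InR) LrestT := by
  have h := l_ok
  simp only [Bool.and_eq_true] at h
  have hd := ldisj_ok
  rw [Bool.and_eq_true] at hd
  exact ncard_cover (S := S.nb q1 InR) h.1.1.2 hd.1 (fun g hg => S.inv_nb (fun σ hσ v => InR_smul hσ) (lgW_fix hg)) fun v hv =>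
    ⟨hv.2, not_bit_singleton (x := q1) (v := v) fun e => S.A_irrefl q1 (e ▸ hv.1)⟩

theorem double_count : 1755 * (1754 - (S.nb p1 InD).ncard) = 2304 * (S.nb q1 InD).ncard := by
  classical
  let sD : Finset (Fin 4060) := Finset.univ.filter InD
  let sR : Finset (Fin 4060) := Finset.univ.filter InR
  have hD : sD.card = 1755 := by
    rw [← ncard_dom, ← Set.ncard_coe_finset]; congr 1; ext; simp [sD]
  have hR : sR.card = 2304 := by
    rw [← ncard_rest, ← Set.ncard_coe_finset]; congr 1; ext; simp [sR]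
  have h := Finset.card_mul_eq_card_mul (fun p r => S.A p r) (s := sD) (t := sR)
    (m := 1754 - (S.nb p1 InD).ncard) (n := (S.nb q1 InD).ncard)
    (fun p hp => by
      have hpD : InD p := (Finset.mem_filter.1 hp).2
      obtain ⟨σ, hσ, rfl⟩ := trans_dom hpD
      have h1 := S.nbr_split (σ p1)
      rw [S.nb_zero_dom hpD, S.nb_smul hσ p1 (fun v => InD_smul hσ)] at h1
      have e : (sR.filter fun r => S.A (σ p1) r).card = (S.nb (σ p1) InR).ncard := by
        rw [← Set.ncard_coe_finset]; congr 1; ext v; simp [sR, nb, and_comm]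
      show (sR.filter fun r => S.A (σ p1) r).card = _
      omega)
    (fun r hr => by
      have hrR : InR r := (Finset.mem_filter.1 hr).2
      obtain ⟨σ, hσ, rfl⟩ := trans_rest hrR
      rw [← S.nb_smul hσ q1 (fun v => InD_smul hσ), ← Set.ncard_coe_finset]
      congr 1
      ext v
      simp only [Finset.bipartiteBelow, Finset.coe_filter, Set.mem_ofPred_eq, sD, Finset.mem_filter,
        Finset.mem_univ, true_and, nb]
      exact ⟨fun h => ⟨S.A_symm h.2, h.1⟩, fun h => ⟨h.2, S.A_symm h.1⟩⟩)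
  rwa [hD, hR] at h

theorem not_block (hl : (S.nb p1 InD).ncard = 1754) : False := by
  classical
  have := S.trans
  have := S.finiteΩ
  let B : Set Ω := S.E '' {v | v = 0 ∨ InD v}
  have hBc : B.ncard = 1756 := by
    rw [Set.ncard_image_of_injective _ S.E.injective,
      show {v : Fin 4060 | v = 0 ∨ InD v} = insert 0 {v | InD v} from rfl,
      Set.ncard_insert_of_notMem (a := (0 : Fin 4060)) (s := {v : Fin 4060 | InD v}) (fun h => InD_ne h rfl), ncard_dom]
  have hf : ∀ y ∈ B, insert y {z | S.Adj' y z} = B := by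
    rintro _ ⟨v, hv, rfl⟩
    have hsub : insert (S.E v) {z | S.Adj' (S.E v) z} ⊆ B := by
      rintro z (rfl | hz)
      · exact ⟨v, hv, rfl⟩
      · obtain ⟨w, rfl⟩ := S.E.surjective z
        refine ⟨w, ?_, rfl⟩
        rcases hv with rfl | hvD
        · exact Or.inr (S.A_zero.1 hz)
        · rcases point_cases w with e | e | e
          · exact Or.inl e
          · exact Or.inr e
          · exfalso
            obtain ⟨σ, hσ, rfl⟩ := trans_dom hvD
            have h1 := S.nbr_split (σ p1)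
            rw [S.nb_zero_dom hvD, S.nb_smul hσ p1 (fun v => InD_smul hσ), hl] at h1
            have h0 : S.nb (σ p1) InR = ∅ := (Set.ncard_eq_zero (Set.toFinite _)).1 (by omega)
            exact (Set.ext_iff.1 h0 w).1 ⟨hz, e⟩
    refine Set.eq_of_subset_of_ncard_le hsub ?_
    rw [hBc, Set.ncard_insert_of_notMem (show S.E v ∉ {z | S.Adj' (S.E v) z} from S.A_irrefl v)]
    have e : {z | S.Adj' (S.E v) z} = S.E '' {w | S.A v w} := by
      ext z
      obtain ⟨w, rfl⟩ := S.E.surjective z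
      rw [S.E.injective.mem_set_image]; rfl
    rw [e, Set.ncard_image_of_injective _ S.E.injective, S.nbr_card]
  have hB : MulAction.IsBlock G B := MulAction.isBlock_iff_smul_eq_of_mem.2 fun g y hy hgy => by
    have e := hf (g • y) hgy
    conv_lhs => rw [← hf y hy]
    rw [← e, Set.smul_set_insert]
    refine congrArg (insert (g • y)) (Set.ext fun z => ?_)
    rw [Set.mem_smul_set_iff_inv_smul_mem]
    show S.Adj' y (g⁻¹ • z) ↔ S.Adj' (g • y) z
    rw [← S.adj_smul g, smul_inv_smul]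
  have := hB.ncard_dvd_card ⟨_, 0, Or.inl rfl, rfl⟩
  rw [hBc, S.card] at this
  norm_num at this

theorem starts_facts :
    ((⟨2, by norm_num⟩ : Fin 4060) ∈ S.nb p1 InD ∧ (⟨4, by norm_num⟩ : Fin 4060) ∈ S.nb p1 InD ∧
      (⟨87, by norm_num⟩ : Fin 4060) ∈ S.nb p1 InD ∧ (⟨345, by norm_num⟩ : Fin 4060) ∉ S.nb p1 InD) ∧
    ((⟨1, by norm_num⟩ : Fin 4060) ∈ S.nb q1 InD ∧ (⟨2, by norm_num⟩ : Fin 4060) ∉ S.nb q1 InD ∧
      (⟨90, by norm_num⟩ : Fin 4060) ∈ S.nb q1 InD) ∧
    ((⟨19, by norm_num⟩ : Fin 4060) ∉ S.nb q1 InR ∧ (⟨20, by norm_num⟩ : Fin 4060) ∉ S.nb q1 InR ∧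
      (⟨21, by norm_num⟩ : Fin 4060) ∈ S.nb q1 InR ∧ (⟨23, by norm_num⟩ : Fin 4060) ∉ S.nb q1 InR ∧
      (⟨24, by norm_num⟩ : Fin 4060) ∉ S.nb q1 InR ∧ (⟨71, by norm_num⟩ : Fin 4060) ∉ S.nb q1 InR) := by
  classical
  have hdc := S.double_count
  have hl := S.card_p1_dom
  have hm := S.card_q1_dom
  rw [pick_J] at hl
  rw [pick_D] at hm
  have hl730 : (S.nb p1 InD).ncard = 730 ∧ (S.nb q1 InD).ncard = 780 := by
    have hne : (S.nb p1 InD).ncard ≠ 1754 := fun e => S.not_block e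
    split_ifs at hl hm <;> omega
  rw [hl730.1] at hl
  rw [hl730.2] at hm
  have hr := S.nbr_split q1
  rw [S.nb_zero_rest trans_facts.2.2.2.2.1, hl730.2, S.card_q1_rest, pick_R] at hr
  refine ⟨?_, ?_, ?_⟩
  · split_ifs at hl <;> first | omega | (exact ⟨by assumption, by assumption, by assumption, by assumption⟩)
  · split_ifs at hm <;> first | omega | (exact ⟨by assumption, by assumption, by assumption⟩)
  · split_ifs at hr <;> first | omega |
      (exact ⟨by assumption, by assumption, by assumption, by assumption, by assumption, by assumption⟩)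

theorem A_p1_dom {v : Fin 4060} (hv : InD v) (hne : v ≠ p1) : S.A p1 v ↔ Adj graph p1 v := by
  have h := j_ok
  simp only [Bool.and_eq_true] at h
  obtain ⟨⟨s1, s2, s3, s4⟩, -, -⟩ := S.starts_facts
  have key := eq_of_starts h.1.2 (P := fun u => u ∈ S.nb p1 InD) (Q := fun u => Adj graph p1 u ∧ InD u)
    (fun g hg => S.inv_nb (fun σ hσ v => InD_smul hσ) (jW_fix hg)) (fun g hg u => by
      have := graph_smul (pW_mem g) p1 u
      rw [jW_fix hg] at this
      exact and_congr this (InD_smul (pW_mem g))) (fun t ht hlt => by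
      have hb := row_bits.2
      simp only [Bool.and_eq_true, Bool.not_eq_true'] at hb
      obtain ⟨⟨⟨⟨⟨⟨⟨⟨⟨⟨⟨⟨⟨b1, b2⟩, b3⟩, b4⟩, -⟩, -⟩, -⟩, -⟩, -⟩, -⟩, -⟩, -⟩, -⟩, -⟩ := hb
      have hm : t.1 ∈ JorbT.map (fun t => t.1) := List.mem_map.2 ⟨t, ht, rfl⟩
      rw [starts.1] at hm
      simp only [List.mem_cons, List.not_mem_nil, or_false] at hm
      rcases hm with e | e | e | e
      · rw [show (⟨t.1, hlt⟩ : Fin 4060) = ⟨2, by norm_num⟩ from Fin.ext e]; exact iff_of_true s1 ⟨b1, s1.2⟩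
      · rw [show (⟨t.1, hlt⟩ : Fin 4060) = ⟨4, by norm_num⟩ from Fin.ext e]; exact iff_of_true s2 ⟨b2, s2.2⟩
      · rw [show (⟨t.1, hlt⟩ : Fin 4060) = ⟨87, by norm_num⟩ from Fin.ext e]; exact iff_of_true s3 ⟨b3, s3.2⟩
      · rw [show (⟨t.1, hlt⟩ : Fin 4060) = ⟨345, by norm_num⟩ from Fin.ext e]
        exact iff_of_false s4 fun h => by
          have := h.1
          rw [Adj, b4] at this
          exact Bool.noConfusion this) (y := v) hv (not_bit_singleton hne)
  exact ⟨fun h => (key.1 ⟨h, hv⟩).1, fun h => (key.2 ⟨h, hv⟩).1⟩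

theorem A_q1_dom {v : Fin 4060} (hv : InD v) : S.A q1 v ↔ Adj graph q1 v := by
  have h := l_ok
  simp only [Bool.and_eq_true] at h
  obtain ⟨-, ⟨s1, s2, s3⟩, -⟩ := S.starts_facts
  have key := eq_of_starts h.1.2 (P := fun u => u ∈ S.nb q1 InD) (Q := fun u => Adj graph q1 u ∧ InD u)
    (fun g hg => S.inv_nb (fun σ hσ v => InD_smul hσ) (lgW_fix hg)) (fun g hg u => by
      have := graph_smul (pW_mem g) q1 u
      rw [lgW_fix hg] at this
      exact and_congr this (InD_smul (pW_mem g))) (fun t ht hlt => by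
      have hb := row_bits.2
      simp only [Bool.and_eq_true, Bool.not_eq_true'] at hb
      obtain ⟨⟨⟨⟨⟨⟨⟨⟨⟨⟨⟨⟨⟨-, -⟩, -⟩, -⟩, b1⟩, b2⟩, b3⟩, -⟩, -⟩, -⟩, -⟩, -⟩, -⟩, -⟩ := hb
      have hm : t.1 ∈ LdomT.map (fun t => t.1) := List.mem_map.2 ⟨t, ht, rfl⟩
      rw [starts.2.2] at hm
      simp only [List.mem_cons, List.not_mem_nil, or_false] at hm
      rcases hm with e | e | e
      · rw [show (⟨t.1, hlt⟩ : Fin 4060) = ⟨1, by norm_num⟩ from Fin.ext e]; exact iff_of_true s1 ⟨b1, s1.2⟩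
      · rw [show (⟨t.1, hlt⟩ : Fin 4060) = ⟨2, by norm_num⟩ from Fin.ext e]
        exact iff_of_false s2 fun h => by
          have := h.1
          rw [Adj, b2] at this
          exact Bool.noConfusion this
      · rw [show (⟨t.1, hlt⟩ : Fin 4060) = ⟨90, by norm_num⟩ from Fin.ext e]; exact iff_of_true s3 ⟨b3, s3.2⟩)
    (y := v) hv (bit_zero _)
  exact ⟨fun h => (key.1 ⟨h, hv⟩).1, fun h => (key.2 ⟨h, hv⟩).1⟩

theorem A_q1_rest {v : Fin 4060} (hv : InR v) (hne : v ≠ q1) : S.A q1 v ↔ Adj graph q1 v := by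
  have h := l_ok
  simp only [Bool.and_eq_true] at h
  obtain ⟨-, -, s1, s2, s3, s4, s5, s6⟩ := S.starts_facts
  have key := eq_of_starts h.1.1.2 (P := fun u => u ∈ S.nb q1 InR) (Q := fun u => Adj graph q1 u ∧ InR u)
    (fun g hg => S.inv_nb (fun σ hσ v => InR_smul hσ) (lgW_fix hg)) (fun g hg u => by
      have := graph_smul (pW_mem g) q1 u
      rw [lgW_fix hg] at this
      exact and_congr this (InR_smul (pW_mem g))) (fun t ht hlt => by
      have hb := row_bits.2
      simp only [Bool.and_eq_true, Bool.not_eq_true'] at hb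
      obtain ⟨⟨⟨⟨⟨⟨⟨⟨⟨⟨⟨⟨⟨-, -⟩, -⟩, -⟩, -⟩, -⟩, -⟩, b1⟩, b2⟩, b3⟩, b4⟩, b5⟩, b6⟩, -⟩ := hb
      have hno : ∀ {k : ℕ}, bit (graph.B.get 743) k = false → ∀ hk : k < 4060,
          ¬ (Adj graph q1 (⟨k, hk⟩ : Fin 4060) ∧ InR ⟨k, hk⟩) := fun hb hk h => by
        have := h.1
        rw [Adj, hb] at this
        exact Bool.noConfusion this
      have hm : t.1 ∈ LrestT.map (fun t => t.1) := List.mem_map.2 ⟨t, ht, rfl⟩
      rw [starts.2.1] at hm
      simp only [List.mem_cons, List.not_mem_nil, or_false] at hm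
      rcases hm with e | e | e | e | e | e
      · rw [show (⟨t.1, hlt⟩ : Fin 4060) = ⟨19, by norm_num⟩ from Fin.ext e]; exact iff_of_false s1 (hno b1 _)
      · rw [show (⟨t.1, hlt⟩ : Fin 4060) = ⟨20, by norm_num⟩ from Fin.ext e]; exact iff_of_false s2 (hno b2 _)
      · rw [show (⟨t.1, hlt⟩ : Fin 4060) = ⟨21, by norm_num⟩ from Fin.ext e]; exact iff_of_true s3 ⟨b3, s3.2⟩
      · rw [show (⟨t.1, hlt⟩ : Fin 4060) = ⟨23, by norm_num⟩ from Fin.ext e]; exact iff_of_false s4 (hno b4 _)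
      · rw [show (⟨t.1, hlt⟩ : Fin 4060) = ⟨24, by norm_num⟩ from Fin.ext e]; exact iff_of_false s5 (hno b5 _)
      · rw [show (⟨t.1, hlt⟩ : Fin 4060) = ⟨71, by norm_num⟩ from Fin.ext e]; exact iff_of_false s6 (hno b6 _))
    (y := v) hv (not_bit_singleton hne)
  exact ⟨fun h => (key.1 ⟨h, hv⟩).1, fun h => (key.2 ⟨h, hv⟩).1⟩

theorem A_q1 (v : Fin 4060) : S.A q1 v ↔ Adj graph q1 v := by
  rcases point_cases v with rfl | hv | hv
  · rw [S.A_comm, S.A_zero, graph_symm, adj_zero']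
  · exact S.A_q1_dom hv
  · by_cases hne : v = q1
    · subst hne
      have h := row_bits.1
      simp only [List.all_cons, List.all_nil, Bool.and_true, Bool.and_eq_true, Bool.not_eq_true'] at h
      exact iff_of_false (S.A_irrefl _) fun e => by rw [Adj, h.2] at e; exact Bool.noConfusion e
    · exact S.A_q1_rest hv hne

theorem A_eq (u v : Fin 4060) : S.A u v ↔ Adj graph u v := by
  obtain ⟨σ, hσ, a, ha, rfl⟩ := reach_base u
  obtain ⟨w, rfl⟩ : ∃ w, σ w = v := ⟨σ.symm v, σ.apply_symm_apply v⟩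
  rw [S.A_smul hσ, graph_smul hσ]
  rcases ha with rfl | rfl | rfl
  · rw [S.A_zero, adj_zero']
  · rcases point_cases w with rfl | hw | hw
    · rw [S.A_comm, S.A_zero, graph_symm, adj_zero']
    · by_cases hne : w = p1
      · subst hne
        have h := row_bits.1
        simp only [List.all_cons, List.all_nil, Bool.and_true, Bool.and_eq_true, Bool.not_eq_true'] at h
        exact iff_of_false (S.A_irrefl _) fun e => by rw [Adj, h.1] at e; exact Bool.noConfusion e
      · exact S.A_p1_dom hw hne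
    · obtain ⟨τ, hτ, rfl⟩ := trans_rest hw
      obtain ⟨z, hz⟩ : ∃ z, τ z = p1 := ⟨τ.symm p1, τ.apply_symm_apply p1⟩
      rw [S.A_comm, graph_symm, ← hz, S.A_smul hτ, graph_smul hτ]
      exact S.A_q1 z
  · exact S.A_q1 w

/-- The action on the numbers. -/
noncomputable def θ : G →* Equiv.Perm (Fin 4060) :=
  S.E.permCongrHom.symm.toMonoidHom.comp (MulAction.toPermHom G Ω)

theorem θ_spec (g : G) (v : Fin 4060) : S.E (S.θ g v) = g • S.E v := S.E.apply_symm_apply _

theorem θ_inj : Function.Injective S.θ := by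
  have := S.faithful
  exact (S.E.permCongrHom.symm.injective).comp (MulAction.toPerm_injective (α := G) (β := Ω))

theorem θ_range : S.θ.range = ruGroup := by
  have := S.trans
  have := S.finite
  have hle : S.θ.range ≤ ruGroup := by
    rw [ruGroup_eq]
    rintro _ ⟨g, rfl⟩ x u
    rw [← S.A_eq, ← S.A_eq, A, A, S.θ_spec, S.θ_spec, S.adj_smul]
  refine Subgroup.eq_of_le_of_card_ge hle ?_
  rw [card_ruGroup, ← Nat.card_congr (MonoidHom.ofInjective S.θ_inj).toEquiv]
  have h := (MulAction.stabilizer G S.a).index_mul_card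
  rw [MulAction.index_stabilizer, MulAction.orbit_eq_univ, Set.ncard_univ, S.card, S.card_Ga] at h
  rw [← h]

/-- **The recognition.** -/
theorem nonempty_equiv (S : Setup G Ω) : Nonempty (G ≃* Cfsg.Spor.Ru) :=
  ⟨((MonoidHom.ofInjective S.θ_inj).trans (MulEquiv.subgroupCongr S.θ_range)).trans ruEquiv.symm⟩

end Setup

end Cfsg.Agent.RuRec
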