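import Cfsg.Agent.Lib.RuRec.Points
import Cfsg.Agent.Lib.RuRec.CheckV

/-! The stabiliser of the model is the twisted group over two elements. -/

set_option autoImplicit false
set_option maxRecDepth 100000

namespace Cfsg.Agent.RuRec

open Cfsg.Agent.RigidGraph Cfsg.Agent.RigidGraph.Ru Cfsg.Agent.Chev Cfsg.Agent.Chev.Tits
open scoped Matrix

attribute [local irreducible] octV octOrd e5W backW dom restSet graph rowsB TitsData.colP TitsData.colZ
  TitsData.colN0 TitsData.colN1 TitsData.colA nodesT0 oE stepsT vec genOK sameB flatW pW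

theorem incOK_pairwise {f : ℕ → ℕ} : ∀ {l : List ℕ}, incOK f l = true → l.Pairwise (fun a b => f a < f b)
  | [], _ => List.Pairwise.nil
  | [a], _ => List.pairwise_singleton _ _
  | a :: b :: l, h => by
    simp only [incOK, Bool.and_eq_true, Nat.blt_eq] at h
    have ih := incOK_pairwise h.2
    refine List.Pairwise.cons (fun c hc => ?_) ih
    rcases List.mem_cons.1 hc with rfl | hc
    · exact h.1
    · exact h.1.trans ((List.pairwise_cons.1 ih).1 c hc)

theorem bit_foldr_ins : ∀ (l : List ℕ) (y : ℕ), bit (l.foldr (fun x m => ins m x) 0) y = true ↔ y ∈ l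
  | [], y => by simp [bit_zero]
  | a :: l, y => by rw [List.foldr_cons, bit_ins, bit_foldr_ins l y, List.mem_cons]

theorem mem_octOrd {x : Fin 4060} : InD x ↔ (x : ℕ) ∈ octOrd := by
  have h := octOrd_ok
  simp only [Bool.and_eq_true, Nat.beq_eq] at h
  rw [← bit_foldr_ins octOrd, h.1.2]

theorem vec_lt {x : Fin 4060} (hx : InD x) : vec x < 2 ^ 52 := by
  have h := List.all_eq_true.1 vec16_ok x (mem_octOrd.1 hx)
  rw [Nat.blt_eq] at h
  exact h.trans_le (by norm_num)

theorem vec_inj {x y : Fin 4060} (hx : InD x) (hy : InD y) (h : vecN (vec x) = vecN (vec y)) : x = y := by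
  have h' := vecN_inj (vec_lt hx) (vec_lt hy) h
  have h2 := octOrd_ok
  simp only [Bool.and_eq_true] at h2
  by_contra hne
  have hne' : (x : ℕ) ≠ y := fun e => hne (Fin.ext e)
  have hnd : (octOrd.map vec).Nodup :=
    List.pairwise_map.2 ((incOK_pairwise h2.1.1).imp fun h => h.ne)
  exact hne' (List.inj_on_of_nodup_map hnd (mem_octOrd.1 hx) (mem_octOrd.1 hy) h')

/-- The two actions agree. -/
def Compat (g : ↥TW) (σ : Equiv.Perm (Fin 4060)) : Prop :=
  σ ∈ Mst ∧ ∀ x : Fin 4060, InD x →
    ((g : GL F4Data.tab.D.Idx K2) : Matrix F4Data.tab.D.Idx F4Data.tab.D.Idx K2) *ᵥ vecN (vec x) =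
      vecN (vec (σ x : Fin 4060))

theorem compat_one : Compat 1 1 := ⟨one_mem _, fun x _ => by simp⟩

theorem compat_mul {g h : ↥TW} {σ τ : Equiv.Perm (Fin 4060)} (hg : Compat g σ) (hh : Compat h τ) :
    Compat (g * h) (σ * τ) := by
  refine ⟨mul_mem hg.1 hh.1, fun x hx => ?_⟩
  rw [Subgroup.coe_mul, Units.val_mul, ← Matrix.mulVec_mulVec, hh.2 x hx, hg.2 _ ((InD_smul hh.1).2 hx),
    Equiv.Perm.mul_apply]

theorem compat_inv {g : ↥TW} {σ : Equiv.Perm (Fin 4060)} (hg : Compat g σ) : Compat g⁻¹ σ⁻¹ := by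
  refine ⟨inv_mem hg.1, fun x hx => ?_⟩
  have h := hg.2 _ ((InD_smul (inv_mem hg.1)).2 hx)
  rw [show σ (σ⁻¹ x) = x from σ.apply_symm_apply x] at h
  rw [← h, Matrix.mulVec_mulVec, ← Units.val_mul, ← Subgroup.coe_mul, inv_mul_cancel]
  simp

theorem compat_gen (i : Fin 5) : Compat (gen i) (pW (e5W.getD i [])) := by
  refine ⟨pW_mem _, fun x hx => ?_⟩
  have h : genOK i = true := by
    fin_cases i
    exacts [gen0_ok, gen1_ok, gen2_ok, gen3_ok, gen4_ok]
  rw [genOK] at h
  have h2 := Nat.eq_of_beq_eq_true (List.all_eq_true.1 h x (mem_octOrd.1 hx))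
  rw [pW_apply, h2, ← valW_single, act_valW]
  rfl

theorem compat_valW : ∀ w : List (Fin 5), Compat (valW w) (pW (flatW w))
  | [] => by
    rw [flatW, List.flatMap_nil, pW_nil, show valW [] = 1 by simp [valW]]
    exact compat_one
  | i :: w => by
    have e : flatW (i :: w) = e5W.getD i [] ++ flatW w := by rw [flatW, flatW, List.flatMap_cons]
    rw [e, pW_append, show valW (i :: w) = gen i * valW w by simp [valW]]
    exact compat_mul (compat_gen i) (compat_valW w)

theorem compat_unique {g : ↥TW} {σ τ : Equiv.Perm (Fin 4060)} (hσ : Compat g σ) (hτ : Compat g τ) : σ = τ := by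
  refine (inv_mul_eq_one.1 (eq_one_of_outside (mul_mem (inv_mem hτ.1) hσ.1).1 dom_lt (by norm_num) outside_ok
    fun y hy => ?_)).symm
  rcases (bit_ins _ _ _).1 hy with hy | hy
  · rw [show y = (0 : Fin 4060) from Fin.ext hy]
    exact Mst_fix0 (mul_mem (inv_mem hτ.1) hσ.1)
  · rw [Equiv.Perm.mul_apply, Equiv.Perm.inv_def, Equiv.symm_apply_eq]
    exact vec_inj ((InD_smul hσ.1).2 hy) ((InD_smul hτ.1).2 hy) ((hσ.2 y hy).symm.trans (hτ.2 y hy))

theorem compat_exists (g : ↥TW) : ∃ σ, Compat g σ := by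
  have hg : g ∈ Subgroup.closure (Set.range gen) := by rw [closure_gen]; trivial
  induction hg using Subgroup.closure_induction with
  | mem x hx => obtain ⟨i, rfl⟩ := hx; exact ⟨_, compat_gen i⟩
  | one => exact ⟨1, compat_one⟩
  | mul a b _ _ ha hb => exact ⟨_, compat_mul ha.choose_spec hb.choose_spec⟩
  | inv a _ ha => exact ⟨_, compat_inv ha.choose_spec⟩

/-- The homomorphism to the stabiliser of the model. -/
noncomputable def twHom : ↥TW →* ↥Mst where
  toFun g := ⟨(compat_exists g).choose, (compat_exists g).choose_spec.1⟩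
  map_one' := Subtype.ext (compat_unique (compat_exists 1).choose_spec compat_one)
  map_mul' a b := Subtype.ext (compat_unique (compat_exists (a * b)).choose_spec
    (compat_mul (compat_exists a).choose_spec (compat_exists b).choose_spec))

theorem twHom_surjective : Function.Surjective twHom := by
  have h : Subgroup.closure {pg 0, pg 1, pg 2} ≤ twHom.range.map Mst.subtype := by
    rw [Subgroup.closure_le]
    intro x hx
    obtain ⟨k, hk, rfl⟩ : ∃ k, k < 3 ∧ x = pg k := by
      rcases hx with h | h | h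
      exacts [⟨0, by norm_num, h⟩, ⟨1, by norm_num, h⟩, ⟨2, by norm_num, h⟩]
    have hb := List.all_eq_true.1 back_ok k (by simp; omega)
    refine ⟨_, ⟨valW (backW.getD k []), rfl⟩, ?_⟩
    show ((twHom (valW (backW.getD k [])) : ↥Mst) : Equiv.Perm (Fin 4060)) = pg k
    refine (compat_unique (compat_exists _).choose_spec (compat_valW _)).trans ?_
    rw [eq_of_sameB hb, pW_cons, pW_nil, mul_one]
  rw [Mst_closure] at h
  intro y
  obtain ⟨z, ⟨g, rfl⟩, e⟩ := h y.2
  exact ⟨g, Subtype.ext e⟩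

theorem card_TW' : Nat.card ↥TW = 35942400 := card_TW.trans (by norm_num)

/-- The model stabiliser, from the matrix group. -/
noncomputable def twEquiv0 : ↥TW ≃* ↥Mst :=
  MulEquiv.ofBijective twHom ((Nat.bijective_iff_surjective_and_card _).2
    ⟨twHom_surjective, card_TW'.trans card_Mst.symm⟩)

/-- **The point stabiliser of the model.** -/
noncomputable def twEquiv : ↥(Cfsg.Lie.twistedF4 (ZMod 2) 1) ≃* ↥Mst := twEquiv0

end Cfsg.Agent.RuRec
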