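import Cfsg.Agent.Lib.RuRec.Defs
import Cfsg.Agent.Lib.RuRec.DataV
import Cfsg.Agent.Lib.RuRec.DataW
import Cfsg.Agent.Lib.RuRec.DataQ
import Cfsg.Agent.Lib.RuRec.DataK
import Cfsg.Agent.Lib.RigidGraph.Ru.Cert
import Cfsg.Agent.Lib.RigidGraph.Ru.Graphs
import Cfsg.Agent.Lib.RigidGraph.Ru.Nets
import Cfsg.Agent.Lib.Lie.Tits

/-! The checkers for the certificates. -/

set_option autoImplicit false
set_option maxRecDepth 100000

namespace Cfsg.Agent.RuRec

open Cfsg.Agent.RigidGraph Cfsg.Agent.RigidGraph.Ru
open Cfsg.Agent.Chev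

/-- the vector of a point -/
noncomputable def vec (x : ℕ) : ℕ :=
  Nat.land (Nat.shiftRight (octV.get x) (Nat.mul 64 (Nat.div x 16))) 18446744073709551615

/-- one generator agrees with its word on the vectors -/
noncomputable def genOK (i : Fin 5) : Bool :=
  octOrd.all fun x => Nat.beq (vec (evalW (e5W.getD i []) x)) (TitsData.appN (Chev.Tits.gCol i) (vec x) 0)

/-- the values of the word in the generators -/
def flatW (w : List (Fin 5)) : List ℕ := w.flatMap fun i : Fin 5 => e5W.getD i.val []

/-- a word in the series -/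
def seriesW (w : List ℕ) : List ℕ := w.flatMap fun i => pcW.getD i []

/-- conjugate of a word -/
def conjW (g w : List ℕ) : List ℕ := g ++ w ++ invW g

/-- the entry of the table of quadruples -/
noncomputable def entry (i : ℕ) : ℕ :=
  Nat.land (Nat.shiftRight (quadT.get i) (Nat.mul 128 (Nat.div i 256))) 340282366920938463463374607431768211455

/-- the quadruple -/
noncomputable def qmask (i : ℕ) : ℕ := bitsOf (entry i) 4

/-- the first quadruple -/
def quad0 : List ℕ := [19, 26, 40, 48]

/-- the image of a list under a word, as a set -/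
def imgW (w l : List ℕ) : ℕ := l.foldr (fun x m => ins m (evalW w x)) 0

/-- the points of a quadruple -/
noncomputable def qlist (i : ℕ) : List ℕ := [slot (entry i) 0, slot (entry i) 1, slot (entry i) 2, slot (entry i) 3]

/-- the quadruple `i` comes from a representative or an earlier one -/
noncomputable def parOK (i : ℕ) : Bool :=
  bif Nat.blt (slot (entry i) 7) 32768 then
    Nat.blt (Nat.div (slot (entry i) 7) 2) i &&
      Nat.beq (imgW (bif Nat.beq (Nat.mod (slot (entry i) 7) 2) 1 then eW else [0])
        (qlist (Nat.div (slot (entry i) 7) 2))) (qmask i)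
  else
    Nat.blt (slot (entry i) 7 - 32768) 102 &&
      Nat.beq (imgW (repW.getD (slot (entry i) 7 - 32768) []) quad0) (qmask i)

/-- the table is closed -/
noncomputable def nextOK (i : ℕ) : Bool :=
  [0, 1, 2].all fun k => Nat.blt (slot (entry i) (4 + k)) 14976 &&
    (qlist i).all (fun x => Nat.blt x 4060) &&
    Nat.beq (imgW [k] (qlist i)) (qmask (slot (entry i) (4 + k)))

/-- a long orbit: the start is a fixed point of the first letter outside the first suborbit -/
noncomputable def longOK (b : ℕ × ℕ × ℕ × ℕ) : Bool :=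
  bit restSet b.2.1 && Nat.beq (evalW [0] b.2.1) b.2.1 && Nat.blt 599 b.2.2.2 &&
    (grow [[0], conjW (repW.getD b.1 []) uW] b.2.1 b.2.2.1 b.2.2.2).isSome

end Cfsg.Agent.RuRec
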