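import Cfsg.Agent.Lib.RuRec.Defs
import Cfsg.Agent.Lib.RigidGraph.Ru.Group

/-! Meaning of the words, the stabiliser of the first point, and its order. -/

set_option autoImplicit false
set_option maxRecDepth 100000

namespace Cfsg.Agent.RuRec

open Cfsg.Agent.RigidGraph Cfsg.Agent.RigidGraph.Ru

/-- The stabiliser of the first point. -/
noncomputable def Mst : Subgroup (Equiv.Perm (Fin 4060)) := autG 4060 graph ⊓ fixList 4060 [0]

theorem oE_ok : (Nat.beq oE.1 (getN nodesG 156).1 && Nat.beq oE.2 (getN nodesG 156).2) = true := by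
  decide +kernel

theorem gl01 : ((Nat.beq (nodesT0.getD 0 (0, 0)).1 (nodesT.getD 0 (0, 0)).1 &&
    Nat.beq (nodesT0.getD 0 (0, 0)).2 (nodesT.getD 0 (0, 0)).2) &&
    (Nat.beq (nodesT0.getD 1 (0, 0)).1 (nodesT.getD 1 (0, 0)).1 &&
    Nat.beq (nodesT0.getD 1 (0, 0)).2 (nodesT.getD 1 (0, 0)).2)) = true := by
  decide +kernel

theorem fix0 : ([0, 1, 2].all fun k => Nat.beq (slot (gl k).1 0) 0) = true := by decide +kernel

attribute [local irreducible] nodesT nodesT0 nodesG oE graph graphA levelsG rowsB rowsA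

theorem oE_eq : oE = getN nodesG 156 := by
  have h := oE_ok
  rw [Bool.and_eq_true] at h
  exact Prod.ext (Nat.eq_of_beq_eq_true h.1) (Nat.eq_of_beq_eq_true h.2)

theorem gl0_eq : gl 0 = nodesT.getD 0 (0, 0) ∧ gl 1 = nodesT.getD 1 (0, 0) := by
  have h := gl01
  simp only [Bool.and_eq_true] at h
  exact ⟨Prod.ext (Nat.eq_of_beq_eq_true h.1.1) (Nat.eq_of_beq_eq_true h.1.2),
    Prod.ext (Nat.eq_of_beq_eq_true h.2.1) (Nat.eq_of_beq_eq_true h.2.2)⟩

theorem gl2_ok : permOK 4060 oE = true := by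
  rw [oE_eq]; exact getN_ok slpG_ok (by rw [lengthsG.1]; norm_num)

theorem gl_ok : ∀ k, permOK 4060 (gl k) = true
  | 0 => gl0_eq.1 ▸ genT_perm.1
  | 1 => gl0_eq.2 ▸ genT_perm.2
  | 2 => gl2_ok
  | 3 => permOK_invE (gl_ok 0)
  | 4 => permOK_invE (gl_ok 1)
  | _ + 5 => permOK_invE gl2_ok

/-- The permutation of a letter. -/
noncomputable def pg (k : ℕ) : Equiv.Perm (Fin 4060) := permOf 4060 (gl k)

/-- The permutation of a word. -/
noncomputable def pW (w : List ℕ) : Equiv.Perm (Fin 4060) := (w.map pg).prod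

theorem pW_nil : pW [] = 1 := rfl

theorem pW_cons (k : ℕ) (w : List ℕ) : pW (k :: w) = pg k * pW w := by simp [pW]

theorem pW_append (w w' : List ℕ) : pW (w ++ w') = pW w * pW w' := by simp [pW]

theorem pW_apply : ∀ (w : List ℕ) (i : Fin 4060), (pW w i : ℕ) = evalW w i
  | [], _ => rfl
  | k :: w, i => by
    rw [pW_cons, Equiv.Perm.mul_apply, pg, permOf_val (gl_ok k), pW_apply w i]
    rfl

theorem evalW_lt (w : List ℕ) {i : ℕ} (hi : i < 4060) : evalW w i < 4060 := by
  rw [← pW_apply w ⟨i, hi⟩]; exact Fin.is_lt _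

theorem pg_inv (k : ℕ) : pW (invW [k]) = (pg k)⁻¹ := by
  match k with
  | 0 => exact (mul_one _).trans (permOf_invE (gl_ok 0))
  | 1 => exact (mul_one _).trans (permOf_invE (gl_ok 1))
  | 2 => exact (mul_one _).trans (permOf_invE gl2_ok)
  | 3 => exact (mul_one _).trans ((inv_inv _).symm.trans (congrArg (·⁻¹) (permOf_invE (gl_ok 0)).symm))
  | 4 => exact (mul_one _).trans ((inv_inv _).symm.trans (congrArg (·⁻¹) (permOf_invE (gl_ok 1)).symm))
  | k + 5 =>
    have e : invW [k + 5] = [2] := by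
      simp [invW, show Nat.blt (k + 5) 3 = false by rw [← Bool.not_eq_true, Nat.blt_eq]; omega,
        show Nat.blt (k + 5) 5 = false by rw [← Bool.not_eq_true, Nat.blt_eq]; omega]
    rw [e]
    exact (mul_one _).trans ((inv_inv _).symm.trans (congrArg (·⁻¹) (permOf_invE gl2_ok).symm))

theorem pW_invW : ∀ w : List ℕ, pW (invW w) = (pW w)⁻¹
  | [] => by simp [invW, pW]
  | k :: w => by
    have e : invW (k :: w) = invW w ++ invW [k] := by simp [invW]
    rw [e, pW_append, pW_invW w, pg_inv, pW_cons, mul_inv_rev]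

theorem pg_mem_base : ∀ k < 3, pg k ∈ Mst := by
  intro k hk
  have h0 := fix0
  simp only [List.all_cons, List.all_nil, Bool.and_true, Bool.and_eq_true, Nat.beq_eq] at h0
  refine ⟨?_, fun i hi => Fin.ext ?_⟩
  · interval_cases k
    · rw [pg, gl0_eq.1]; exact (titsGroup_le (Subgroup.subset_closure (Or.inl rfl))).1.1
    · rw [pg, gl0_eq.2]; exact (titsGroup_le (Subgroup.subset_closure (Or.inr rfl))).1.1
    · rw [pg, show gl 2 = oE from rfl, oE_eq, ← ruGroup_eq]
      exact getN_mem slpG_ok (by rw [lengthsG.1]; norm_num)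
  · rw [List.mem_singleton] at hi
    rw [pg, permOf_val (gl_ok k), hi]
    interval_cases k
    exacts [h0.1, h0.2.1, h0.2.2]

theorem pg_mem (k : ℕ) : pg k ∈ Mst := by
  rcases lt_or_ge k 3 with h | h
  · exact pg_mem_base k h
  · have hk : ∃ j < 3, invE (gl j) = gl k := by
      match k, h with
      | 3, _ => exact ⟨0, by norm_num, rfl⟩
      | 4, _ => exact ⟨1, by norm_num, rfl⟩
      | k + 5, _ => exact ⟨2, by norm_num, rfl⟩
    obtain ⟨j, hj, e⟩ := hk
    rw [pg, ← e, permOf_invE (gl_ok j)]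
    exact inv_mem (pg_mem_base j hj)

theorem pW_mem (w : List ℕ) : pW w ∈ Mst :=
  Subgroup.list_prod_mem _ fun x hx => by
    obtain ⟨k, -, rfl⟩ := List.mem_map.1 hx
    exact pg_mem k

/-- The stabiliser is the range of the stabiliser in the group. -/
theorem Mst_eq : Mst = stabHom.range := by
  refine le_antisymm (fun s hs => ⟨⟨⟨s, ruGroup_eq ▸ hs.1⟩, hs.2 0 (by simp)⟩, rfl⟩) ?_
  rintro _ ⟨g, rfl⟩
  refine ⟨ruGroup_eq ▸ (g : ↥ruGroup).2, fun i hi => ?_⟩
  rw [List.mem_singleton] at hi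
  rw [show i = (0 : Fin 4060) from Fin.ext hi]
  exact g.2

theorem card_Mst : Nat.card ↥Mst = 35942400 := by
  rw [Mst_eq, ← Nat.card_congr (MonoidHom.ofInjective stabHom_injective).toEquiv, card_stab_ruGroup]

theorem Mst_fix0 {σ : Equiv.Perm (Fin 4060)} (h : σ ∈ Mst) : σ 0 = 0 := h.2 0 (by simp)

attribute [local irreducible] pg pW gl

/-- The three letters generate. -/
theorem Mst_closure : Subgroup.closure {pg 0, pg 1, pg 2} = Mst := by
  have hle : Subgroup.closure {pg 0, pg 1, pg 2} ≤ Mst := by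
    rw [Subgroup.closure_le]
    intro x hx
    rcases hx with h | h | h <;> rw [h] <;> exact pg_mem _
  refine Subgroup.eq_of_le_of_card_ge hle ?_
  have ht : titsGroup ≤ Subgroup.closure {pg 0, pg 1, pg 2} := by
    rw [titsGroup, grp, Subgroup.closure_le, Set.insert_subset_iff, Set.singleton_subset_iff]
    have h0 : pg 0 = permOf 4060 (nodesT.getD 0 (0, 0)) := by rw [pg, gl0_eq.1]
    have h1 : pg 1 = permOf 4060 (nodesT.getD 1 (0, 0)) := by rw [pg, gl0_eq.2]
    exact ⟨Subgroup.subset_closure (Or.inl h0.symm), Subgroup.subset_closure (Or.inr (Or.inl h1.symm))⟩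
  have hne : titsGroup ≠ Subgroup.closure {pg 0, pg 1, pg 2} := fun e => by
    have h2 : pg 2 ∈ titsGroup := e ▸ Subgroup.subset_closure (Or.inr (Or.inr rfl))
    rw [pg, show gl 2 = oE from by rw [gl], oE_eq] at h2
    have h := outer_ok
    simp only [Bool.and_eq_true, Nat.beq_eq, Bool.not_eq_true'] at h
    obtain ⟨⟨-, h1⟩, h2'⟩ := h
    have hok := getN_ok slpG_ok (s := 156) (by rw [lengthsG.1]; norm_num)
    have hA : Adj graphA (permOf 4060 (getN nodesG 156) ⟨1, by norm_num⟩ : Fin 4060)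
        (permOf 4060 (getN nodesG 156) ⟨347, by norm_num⟩ : Fin 4060) :=
      ((titsGroup_le h2).1.2 ⟨1, by norm_num⟩ ⟨347, by norm_num⟩).2 h1
    rw [Adj, permOf_val hok, permOf_val hok, h2'] at hA
    exact Bool.noConfusion hA
  obtain ⟨q, hq⟩ := Subgroup.card_dvd_of_le ht
  obtain ⟨r, hr⟩ := Subgroup.card_dvd_of_le hle
  rw [card_titsGroup] at hq
  rw [card_Mst] at hr ⊢
  have h1 : q ≠ 1 := fun e => hne (Subgroup.eq_of_le_of_card_ge ht (by rw [hq, e, mul_one, card_titsGroup]))
  have h0 : q ≠ 0 := fun e => by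
    rw [e, mul_zero] at hq
    exact (Nat.card_pos (α := ↥(Subgroup.closure {pg 0, pg 1, pg 2}))).ne' hq
  rw [hq]; omega

/-- An element is known from the images of three points. -/
theorem eq_of_base {σ τ : Equiv.Perm (Fin 4060)} (hσ : σ ∈ Mst) (hτ : τ ∈ Mst)
    (h : ∀ i : Fin 4060, (i : ℕ) ∈ [19, 1, 899] → σ i = τ i) : σ = τ := by
  have hm : τ⁻¹ * σ ∈ autG 4060 graph ⊓ fixList 4060 [0, 19, 1, 899] := by
    refine ⟨(mul_mem (inv_mem hτ) hσ).1, fun i hi => ?_⟩
    rw [List.mem_cons] at hi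
    rcases hi with hi | hi
    · exact (mul_mem (inv_mem hτ) hσ).2 i (List.mem_singleton.2 hi)
    · rw [Equiv.Perm.mul_apply, h i hi, Equiv.Perm.inv_def, Equiv.symm_apply_apply]
  rw [fix_eq_bot_cuts (by decide) fixG_ok, Subgroup.mem_bot, inv_mul_eq_one] at hm
  exact hm.symm

theorem eq_of_sameB {w w' : List ℕ} (h : sameB w w' = true) : pW w = pW w' := by
  refine eq_of_base (pW_mem w) (pW_mem w') fun i hi => Fin.ext ?_
  simp only [sameB, List.all_eq_true, Nat.beq_eq] at h
  rw [pW_apply, pW_apply]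
  exact h _ hi

theorem pW_fix {w l : List ℕ} (h : fixesW w l = true) : pW w ∈ fixList 4060 l := fun i hi =>
  Fin.ext ((pW_apply w i).trans (Nat.eq_of_beq_eq_true (List.all_eq_true.1 h _ hi)))

theorem grow_spec {gens : List (List ℕ)} {st : ℕ} (hst : st < 4060) (w : ℕ) :
    ∀ k m, grow gens st w k = some m → (∀ y, bit m y = true → y < 4060) ∧
      (∀ Q : Fin 4060 → Prop, (∀ g ∈ gens, ∀ x, Q (pW g x) ↔ Q x) →
        ∀ y (hy : y < 4060), bit m y = true → (Q ⟨y, hy⟩ ↔ Q ⟨st, hst⟩)) ∧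
      ∃ s : Finset (Fin 4060), s.card = k + 1 ∧ ∀ y : Fin 4060, y ∈ s ↔ bit m y = true := by
  intro k
  induction k with
  | zero =>
    intro m hm
    obtain rfl : ins 0 st = m := Option.some.inj hm
    have h0 : ∀ y, bit (ins 0 st) y = true ↔ y = st := fun y => by
      rw [bit_ins, bit_zero]; simp
    refine ⟨fun y hy => (h0 y).1 hy ▸ hst, fun Q _ y hy hb => ?_, {⟨st, hst⟩}, rfl, fun y => ?_⟩
    · obtain rfl := (h0 y).1 hb; exact Iff.rfl
    · rw [Finset.mem_singleton, h0, Fin.ext_iff]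
  | succ k ih =>
    intro m hm
    change (grow gens st w k).bind (step gens (slot w k)) = some m at hm
    obtain ⟨m', hm', hs⟩ := Option.bind_eq_some_iff.1 hm
    obtain ⟨hlt, hQ, s, hcard, hsm⟩ := ih m' hm'
    revert hs
    unfold step
    generalize slot w k = e
    intro hs
    simp only [Bool.cond_eq_ite] at hs
    split_ifs at hs with hc
    rw [Bool.and_eq_true, Bool.not_eq_true'] at hc
    obtain ⟨hu, hy'⟩ := hc
    obtain rfl := Option.some.inj hs
    have hu' := hlt _ hu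
    set g := gens.getD (Nat.div e 4096) [] with hg
    have hy'' : evalW g (Nat.mod e 4096) < 4060 := evalW_lt g hu'
    refine ⟨fun y hy => ?_, fun Q hinv y hy hb => ?_, insert ⟨_, hy''⟩ s, ?_, fun y => ?_⟩
    · rcases (bit_ins _ _ _).1 hy with rfl | h
      · exact hy''
      · exact hlt y h
    · rcases (bit_ins _ _ _).1 hb with rfl | h
      · rw [← hQ Q hinv _ hu' hu]
        have he : (⟨evalW g (Nat.mod e 4096), hy⟩ : Fin 4060) = pW g ⟨_, hu'⟩ := Fin.ext (pW_apply g ⟨_, hu'⟩).symm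
        rw [he]
        by_cases hmem : g ∈ gens
        · exact hinv g hmem _
        · have hnil : g = [] := by
            rw [hg] at hmem ⊢
            by_cases hl : Nat.div e 4096 < gens.length
            · rw [List.getD_eq_getElem _ _ hl] at hmem
              exact absurd (List.getElem_mem hl) hmem
            · exact List.getD_eq_default _ _ (Nat.le_of_not_lt hl)
          rw [hnil, pW_nil]; rfl
      · exact hQ Q hinv y hy h
    · rw [Finset.card_insert_of_notMem, hcard]
      rw [hsm]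
      simpa using hy'
    · rw [Finset.mem_insert, hsm, bit_ins, Fin.ext_iff]

end Cfsg.Agent.RuRec
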