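import Cfsg.Agent.Lib.RuRec.Ops
import Cfsg.Agent.Lib.RuRec.CheckW
import Mathlib.GroupTheory.Sylow

/-! The two suborbits of the model, and trees as invariant sets. -/

set_option autoImplicit false
set_option maxRecDepth 100000

namespace Cfsg.Agent.RuRec

open Cfsg.Agent.RigidGraph Cfsg.Agent.RigidGraph.Ru

attribute [local irreducible] dom restSet graph rowsB TdomT TrestT nodesG nodesT nodesT0 oE

/-- A point of the first suborbit. -/
abbrev InD (x : Fin 4060) : Prop := bit dom x = true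

/-- A point of the second suborbit. -/
abbrev InR (x : Fin 4060) : Prop := bit restSet x = true

/-- The first point of the first suborbit. -/
abbrev p1 : Fin 4060 := ⟨1, by norm_num⟩

/-- The first point of the second suborbit. -/
abbrev q1 : Fin 4060 := ⟨743, by norm_num⟩

/-- The stabiliser of a further point. -/
noncomputable abbrev Stab (p : Fin 4060) : Subgroup (Equiv.Perm (Fin 4060)) :=
  autG 4060 graph ⊓ fixList 4060 [0, (p : ℕ)]

theorem mem_Stab {p : Fin 4060} {σ : Equiv.Perm (Fin 4060)} : σ ∈ Stab p ↔ σ ∈ Mst ∧ σ p = p := by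
  constructor
  · intro h
    exact ⟨⟨h.1, fun i hi => h.2 i (List.mem_cons.2 (Or.inl (List.mem_singleton.1 hi)))⟩, h.2 p (by simp)⟩
  · rintro ⟨h, hp⟩
    refine ⟨h.1, fun i hi => ?_⟩
    rcases List.mem_cons.1 hi with hi | hi
    · exact h.2 i (List.mem_singleton.2 hi)
    · rw [show i = p from Fin.ext (List.mem_singleton.1 hi)]; exact hp

theorem row0 : graph.B.get 0 = dom := by
  have h := dom_ok
  simp only [Bool.and_eq_true, Nat.beq_eq] at h
  exact h.1.1.1.1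

theorem dom_zero : bit dom 0 = false := by
  have h := dom_ok
  simp only [Bool.and_eq_true, Bool.not_eq_true'] at h
  exact h.2

theorem adj_zero {y : Fin 4060} : Adj graph 0 y ↔ InD y := by rw [Adj, row0]

theorem InD_smul {σ : Equiv.Perm (Fin 4060)} (hσ : σ ∈ Mst) {x : Fin 4060} : InD (σ x) ↔ InD x := by
  have := hσ.1 0 x
  rw [Mst_fix0 hσ] at this
  exact adj_zero.symm.trans (this.trans adj_zero)

theorem trans_facts : reach [[0], [1], [2]] TdomT = dom ∧ reach [[0], [1], [2]] TrestT = restSet ∧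
    TdomT.1 = 1 ∧ TrestT.1 = 743 ∧ InR q1 ∧ bit restSet 0 = false ∧
    (∀ x : Fin 4060, x ≠ 0 → (InR x ↔ ¬ InD x)) ∧ cntB (bit restSet) 4060 = 2304 := by
  have h := trans_ok
  simp only [Bool.and_eq_true, Nat.beq_eq, Bool.not_eq_true'] at h
  refine ⟨h.1.1.1.1.1.1.1, h.1.1.1.1.1.1.2, h.1.1.1.1.1.2, h.1.1.1.1.2, h.1.1.1.2, h.1.1.2, fun x hx => ?_, h.2⟩
  have h' := allB_spec h.1.2 x.2
  rw [Bool.or_eq_true, Nat.beq_eq, eqB_iff] at h'
  rcases h' with h' | h'
  · exact absurd (Fin.ext h') hx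
  · show bit restSet x = true ↔ ¬ bit dom x = true
    rw [h', Bool.not_eq_true', Bool.not_eq_true]

theorem InR_iff {x : Fin 4060} : InR x ↔ x ≠ 0 ∧ ¬ InD x := by
  by_cases hx : x = 0
  · subst hx
    exact iff_of_false (by simp [InR, trans_facts.2.2.2.2.2.1]) (fun h => h.1 rfl)
  · rw [trans_facts.2.2.2.2.2.2.1 x hx]; simp [hx]

theorem InD_ne {x : Fin 4060} (h : InD x) : x ≠ 0 := by
  rintro rfl
  have : bit dom 0 = true := h
  rw [dom_zero] at this
  exact Bool.noConfusion this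

theorem InR_smul {σ : Equiv.Perm (Fin 4060)} (hσ : σ ∈ Mst) {x : Fin 4060} : InR (σ x) ↔ InR x := by
  rw [InR_iff, InR_iff, InD_smul hσ, ne_eq, ne_eq]
  conv_lhs => rw [← Mst_fix0 hσ, EmbeddingLike.apply_eq_iff_eq]

theorem point_cases (x : Fin 4060) : x = 0 ∨ InD x ∨ InR x := by
  by_cases hx : x = 0
  · exact Or.inl hx
  · by_cases hd : InD x
    · exact Or.inr (Or.inl hd)
    · exact Or.inr (Or.inr (InR_iff.2 ⟨hx, hd⟩))

theorem treesOK_spec {gens : List (List ℕ)} {ts : List (ℕ × ℕ × ℕ)} (h : treesOK gens ts = true)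
    {t : ℕ × ℕ × ℕ} (ht : t ∈ ts) : t.1 < 4060 ∧ grow gens t.1 t.2.1 t.2.2 = some (reach gens t) := by
  have h' := List.all_eq_true.1 h t ht
  rw [Bool.and_eq_true, Nat.blt_eq] at h'
  obtain ⟨m, hm⟩ := Option.isSome_iff_exists.1 h'.2
  exact ⟨h'.1, by rw [reach, hm]; rfl⟩

/-- An invariant predicate is constant on a tree. -/
theorem reach_iff {gens : List (List ℕ)} {t : ℕ × ℕ × ℕ} (hst : t.1 < 4060)
    (h : grow gens t.1 t.2.1 t.2.2 = some (reach gens t)) {Q : Fin 4060 → Prop}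
    (hQ : ∀ g ∈ gens, ∀ x, Q (pW g x) ↔ Q x) {y : Fin 4060} (hy : bit (reach gens t) y = true) :
    Q y ↔ Q ⟨t.1, hst⟩ :=
  (grow_spec hst _ _ _ h).2.1 Q hQ y y.2 hy

/-- A tree lies in the orbit of its start. -/
theorem reach_orbit {gens : List (List ℕ)} {t : ℕ × ℕ × ℕ} (hst : t.1 < 4060)
    (h : grow gens t.1 t.2.1 t.2.2 = some (reach gens t)) {H : Subgroup (Equiv.Perm (Fin 4060))}
    (hH : ∀ g ∈ gens, pW g ∈ H) {y : Fin 4060} (hy : bit (reach gens t) y = true) :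
    ∃ σ ∈ H, σ ⟨t.1, hst⟩ = y := by
  refine (reach_iff hst h (Q := fun x => ∃ σ ∈ H, σ ⟨t.1, hst⟩ = x) (fun g hg x => ⟨?_, ?_⟩) hy).2 ⟨1, one_mem _, rfl⟩
  · rintro ⟨σ, hσ, e⟩
    exact ⟨(pW g)⁻¹ * σ, mul_mem (inv_mem (hH g hg)) hσ, by
      rw [Equiv.Perm.mul_apply, e, Equiv.Perm.inv_def, Equiv.symm_apply_apply]⟩
  · rintro ⟨σ, hσ, e⟩
    exact ⟨pW g * σ, mul_mem (hH g hg) hσ, by rw [Equiv.Perm.mul_apply, e]⟩

/-- The orbit has at least the size of a tree. -/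
theorem orbit_ge {gens : List (List ℕ)} {t : ℕ × ℕ × ℕ} (hst : t.1 < 4060)
    (h : grow gens t.1 t.2.1 t.2.2 = some (reach gens t)) {H : Subgroup (Equiv.Perm (Fin 4060))}
    (hH : ∀ g ∈ gens, pW g ∈ H) :
    t.2.2 + 1 ≤ (MulAction.orbit ↥H (⟨t.1, hst⟩ : Fin 4060)).ncard := by
  obtain ⟨s, hs, hmem⟩ := (grow_spec hst _ _ _ h).2.2
  rw [← hs, ← Set.ncard_coe_finset]
  refine Set.ncard_le_ncard fun y hy => ?_
  obtain ⟨σ, hσ, e⟩ := reach_orbit hst h hH ((hmem y).1 hy)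
  exact ⟨⟨σ, hσ⟩, e⟩

theorem trans_trees : treesOK [[0], [1], [2]] [TdomT, TrestT] = true := by
  have h := q_ok
  simp only [Bool.and_eq_true, treesOK, List.all_cons, List.all_nil] at h ⊢
  tauto

theorem trans_dom {p : Fin 4060} (hp : InD p) : ∃ σ ∈ Mst, σ p1 = p := by
  obtain ⟨hst, h⟩ := treesOK_spec trans_trees (t := TdomT) (by simp)
  have := reach_orbit hst h (H := Mst) (fun g _ => pW_mem g) (y := p) (by rw [trans_facts.1]; exact hp)
  rwa [show (⟨TdomT.1, hst⟩ : Fin 4060) = p1 from Fin.ext trans_facts.2.2.1] at this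

theorem trans_rest {q : Fin 4060} (hq : InR q) : ∃ σ ∈ Mst, σ q1 = q := by
  obtain ⟨hst, h⟩ := treesOK_spec trans_trees (t := TrestT) (by simp)
  have := reach_orbit hst h (H := Mst) (fun g _ => pW_mem g) (y := q) (by rw [trans_facts.2.1]; exact hq)
  rwa [show (⟨TrestT.1, hst⟩ : Fin 4060) = q1 from Fin.ext trans_facts.2.2.2.1] at this

theorem InD_p1 : InD p1 := by
  have h := dom_ok
  simp only [Bool.and_eq_true] at h
  exact h.1.2

theorem ncard_dom : {x : Fin 4060 | InD x}.ncard = 1755 := by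
  have h := card_dom
  rwa [Dom, ← Set.coe_ofPred, Nat.card_coe_set_eq] at h

theorem ncard_rest : {x : Fin 4060 | InR x}.ncard = 2304 := by
  rw [← trans_facts.2.2.2.2.2.2.2, cntB_eq_fin, ← Set.ncard_coe_finset]
  congr 1
  ext x; simp

theorem orbit_p1 : MulAction.orbit ↥Mst p1 = {x : Fin 4060 | InD x} := by
  ext y
  exact ⟨fun ⟨σ, e⟩ => e ▸ (InD_smul σ.2).2 InD_p1, fun hy => by
    obtain ⟨σ, hσ, e⟩ := trans_dom hy
    exact ⟨⟨σ, hσ⟩, e⟩⟩

theorem orbit_q1 : MulAction.orbit ↥Mst q1 = {x : Fin 4060 | InR x} := by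
  ext y
  exact ⟨fun ⟨σ, e⟩ => e ▸ (InR_smul σ.2).2 trans_facts.2.2.2.2.1, fun hy => by
    obtain ⟨σ, hσ, e⟩ := trans_rest hy
    exact ⟨⟨σ, hσ⟩, e⟩⟩

theorem card_Stab_mul (p : Fin 4060) :
    (MulAction.orbit ↥Mst p).ncard * Nat.card ↥(Stab p) = 35942400 := by
  have h := card_split (autG 4060 graph) [0] p
  rw [List.singleton_append] at h
  exact h.symm.trans card_Mst

theorem card_Stab_p1 : Nat.card ↥(Stab p1) = 20480 := by
  have h := card_Stab_mul p1
  rw [orbit_p1, ncard_dom] at h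
  omega

theorem card_Stab_q1 : Nat.card ↥(Stab q1) = 15600 := by
  have h := card_Stab_mul q1
  rw [orbit_q1, ncard_rest] at h
  omega

/-! ### Conjugation -/

/-- The conjugate of a subgroup. -/
noncomputable def conjS {α : Type*} [Group α] (g : α) (H : Subgroup α) : Subgroup α :=
  H.map (MulAut.conj g).toMonoidHom

theorem mem_conjS {α : Type*} [Group α] {g x : α} {H : Subgroup α} : x ∈ conjS g H ↔ g⁻¹ * x * g ∈ H := by
  constructor
  · rintro ⟨y, hy, rfl⟩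
    simpa [mul_assoc] using hy
  · intro h
    exact ⟨_, h, by simp [mul_assoc]⟩

theorem card_conjS {α : Type*} [Group α] (g : α) (H : Subgroup α) : Nat.card ↥(conjS g H) = Nat.card H :=
  (Nat.card_congr (H.equivMapOfInjective _ (MulAut.conj g).injective).toEquiv).symm

theorem conjS_le {α : Type*} [Group α] {g : α} {H M : Subgroup α} (hg : g ∈ M) (hH : H ≤ M) : conjS g H ≤ M := by
  rintro _ ⟨y, hy, rfl⟩
  exact mul_mem (mul_mem hg (hH hy)) (inv_mem hg)

theorem Stab_smul {σ : Equiv.Perm (Fin 4060)} (hσ : σ ∈ Mst) (p : Fin 4060) : conjS σ (Stab p) = Stab (σ p) := by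
  ext x
  rw [mem_conjS, mem_Stab, mem_Stab]
  constructor
  · rintro ⟨h1, h2⟩
    refine ⟨by simpa [mul_assoc] using mul_mem (mul_mem hσ h1) (inv_mem hσ), ?_⟩
    rw [Equiv.Perm.mul_apply, Equiv.Perm.mul_apply, Equiv.Perm.inv_def, Equiv.symm_apply_eq] at h2
    exact h2
  · rintro ⟨h1, h2⟩
    exact ⟨mul_mem (mul_mem (inv_mem hσ) h1) hσ, by
      rw [Equiv.Perm.mul_apply, Equiv.Perm.mul_apply, h2, Equiv.Perm.inv_def, Equiv.symm_apply_apply]⟩

/-- Two subgroups whose order is the full power of a prime are conjugate. -/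
theorem exists_conj {α : Type*} [Group α] [Finite α] {M H1 H2 : Subgroup α} {p k : ℕ} [Fact p.Prime]
    (hk : (Nat.card M).factorization p = k) (h1 : H1 ≤ M) (h2 : H2 ≤ M)
    (c1 : Nat.card H1 = p ^ k) (c2 : Nat.card H2 = p ^ k) : ∃ g ∈ M, conjS g H1 = H2 := by
  have e1 : Nat.card (H1.subgroupOf M) = p ^ (Nat.card M).factorization p := by
    rw [Nat.card_congr (Subgroup.subgroupOfEquivOfLe h1).toEquiv, c1, hk]
  have e2 : Nat.card (H2.subgroupOf M) = p ^ (Nat.card M).factorization p := by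
    rw [Nat.card_congr (Subgroup.subgroupOfEquivOfLe h2).toEquiv, c2, hk]
  obtain ⟨g, hg⟩ := MulAction.exists_smul_eq ↥M (Sylow.ofCard _ e1) (Sylow.ofCard _ e2)
  refine ⟨g, g.2, Subgroup.eq_of_le_of_card_ge ?_ (by rw [card_conjS, c1, c2])⟩
  rintro _ ⟨y, hy, rfl⟩
  have hm : g * (⟨y, h1 hy⟩ : M) * g⁻¹ ∈ (g • Sylow.ofCard _ e1 : Sylow p M) := by
    show _ ∈ ((g • Sylow.ofCard _ e1 : Sylow p M) : Subgroup M)
    rw [Sylow.coe_subgroup_smul]
    exact ⟨⟨y, h1 hy⟩, hy, rfl⟩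
  rw [hg] at hm
  exact hm

end Cfsg.Agent.RuRec
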