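import Cfsg.Agent.Lib.RuRec.Points

/-! Invariant sets as unions of trees. -/

set_option autoImplicit false
set_option maxRecDepth 100000

namespace Cfsg.Agent.RuRec

open Cfsg.Agent.RigidGraph Cfsg.Agent.RigidGraph.Ru

/-- The trees are pairwise disjoint and avoid a set. -/
noncomputable def disjT (gens : List (List ℕ)) (ts : List (ℕ × ℕ × ℕ)) (m0 : ℕ) : Bool :=
  match ts with
  | [] => true
  | t :: l => Nat.beq (Nat.land (reach gens t) (Nat.lor m0 (unionT gens l))) 0 && disjT gens l m0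

theorem bit_lor (a b y : ℕ) : bit (Nat.lor a b) y = (bit a y || bit b y) := by
  rw [bit_eq_testBit, bit_eq_testBit, bit_eq_testBit]
  exact Nat.testBit_or a b y

theorem bit_unionT {gens : List (List ℕ)} : ∀ {ts : List (ℕ × ℕ × ℕ)} {y : ℕ},
    bit (unionT gens ts) y = true ↔ ∃ t ∈ ts, bit (reach gens t) y = true
  | [], y => by simp [unionT, bit_zero]
  | t :: l, y => by
    show bit (Nat.lor (reach gens t) (unionT gens l)) y = true ↔ _
    rw [bit_lor, Bool.or_eq_true, bit_unionT (ts := l)]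
    simp

theorem disj_spec {a b : ℕ} (h : Nat.beq (Nat.land a b) 0 = true) (y : ℕ) : ¬ (bit a y = true ∧ bit b y = true) := by
  rintro ⟨h1, h2⟩
  rw [bit_eq_testBit] at h1 h2
  have := congrArg (fun m => Nat.testBit m y) (Nat.eq_of_beq_eq_true h)
  simp only [Nat.zero_testBit] at this
  rw [show Nat.land a b = a &&& b from rfl, Nat.testBit_and, h1, h2] at this
  exact Bool.noConfusion this

open Classical in
/-- The size of the union of the trees starting in a set. -/
noncomputable def pick (S : Set (Fin 4060)) (ts : List (ℕ × ℕ × ℕ)) : ℕ :=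
  (ts.map fun t => if ∃ h : t.1 < 4060, (⟨t.1, h⟩ : Fin 4060) ∈ S then t.2.2 + 1 else 0).sum

/-- An invariant set is counted tree by tree. -/
theorem ncard_eq_pick {gens : List (List ℕ)} {m0 : ℕ} {S : Set (Fin 4060)}
    (hS : ∀ g ∈ gens, ∀ x, pW g x ∈ S ↔ x ∈ S) :
    ∀ {ts : List (ℕ × ℕ × ℕ)}, treesOK gens ts = true → disjT gens ts m0 = true →
      {y ∈ S | bit (unionT gens ts) y = true}.ncard = pick S ts
  | [], _, _ => by
    rw [show {y ∈ S | bit (unionT gens []) y = true} = (∅ : Set (Fin 4060)) from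
      Set.ext fun y => by simp [bit_unionT]]
    simp [pick]
  | t :: l, h, hd => by
    classical
    obtain ⟨hst, hg⟩ := treesOK_spec h (t := t) List.mem_cons_self
    have hl : treesOK gens l = true := by
      simp only [treesOK, List.all_cons, Bool.and_eq_true] at h ⊢
      exact h.2
    rw [disjT, Bool.and_eq_true] at hd
    have ih := ncard_eq_pick hS (m0 := m0) (ts := l) hl hd.2
    obtain ⟨s, hs, hmem⟩ := (grow_spec hst _ _ _ hg).2.2
    have hiff : ∀ y : Fin 4060, bit (reach gens t) y = true → (y ∈ S ↔ (⟨t.1, hst⟩ : Fin 4060) ∈ S) :=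
      fun y hy => reach_iff hst hg (Q := (· ∈ S)) hS hy
    have hsplit : {y ∈ S | bit (unionT gens (t :: l)) y = true} =
        {y ∈ S | bit (reach gens t) y = true} ∪ {y ∈ S | bit (unionT gens l) y = true} := by
      ext y
      simp only [Set.mem_ofPred_eq, Set.mem_union, bit_unionT, List.exists_mem_cons_iff]
      tauto
    have hdis : Disjoint {y ∈ S | bit (reach gens t) y = true} {y ∈ S | bit (unionT gens l) y = true} :=
      Set.disjoint_left.2 fun y h1 h2 => disj_spec hd.1 y ⟨h1.2, by rw [bit_lor, h2.2, Bool.or_true]⟩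
    rw [hsplit, Set.ncard_union_eq hdis, ih, pick, pick, List.map_cons, List.sum_cons]
    congr 1
    by_cases hin : (⟨t.1, hst⟩ : Fin 4060) ∈ S
    · rw [if_pos ⟨hst, hin⟩, ← hs, ← Set.ncard_coe_finset]
      congr 1
      ext y
      simp only [Set.mem_ofPred_eq, Finset.mem_coe, hmem]
      exact ⟨fun h => h.2, fun h => ⟨(hiff y h).2 hin, h⟩⟩
    · rw [if_neg (fun ⟨_, h'⟩ => hin h')]
      rw [show {y ∈ S | bit (reach gens t) y = true} = (∅ : Set (Fin 4060)) from
        Set.eq_empty_iff_forall_notMem.2 fun y hy => hin ((hiff y hy.2).1 hy.1), Set.ncard_empty]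

/-- Invariant sets within the covered part agree when they agree on the starts. -/
theorem eq_of_starts {gens : List (List ℕ)} {ts : List (ℕ × ℕ × ℕ)} {m0 D : ℕ} (h : coverOK gens ts m0 D = true)
    {P Q : Fin 4060 → Prop} (hP : ∀ g ∈ gens, ∀ x, P (pW g x) ↔ P x) (hQ : ∀ g ∈ gens, ∀ x, Q (pW g x) ↔ Q x)
    (hst : ∀ t ∈ ts, ∀ ht : t.1 < 4060, P ⟨t.1, ht⟩ ↔ Q ⟨t.1, ht⟩) {y : Fin 4060} (hy : bit D y = true)
    (hy0 : bit m0 y = false) : P y ↔ Q y := by
  rw [coverOK, Bool.and_eq_true, Nat.beq_eq] at h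
  rw [← h.2, bit_lor, hy0, Bool.false_or, bit_unionT] at hy
  obtain ⟨t, ht, hyt⟩ := hy
  obtain ⟨hlt, hg⟩ := treesOK_spec h.1 ht
  rw [reach_iff hlt hg hP hyt, reach_iff hlt hg hQ hyt]
  exact hst t ht hlt

/-- An invariant set in the covered part is counted by the trees. -/
theorem ncard_cover {gens : List (List ℕ)} {ts : List (ℕ × ℕ × ℕ)} {m0 D : ℕ} (h : coverOK gens ts m0 D = true)
    (hd : disjT gens ts m0 = true) {S : Set (Fin 4060)} (hS : ∀ g ∈ gens, ∀ x, pW g x ∈ S ↔ x ∈ S)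
    (hsub : ∀ y ∈ S, bit D y = true ∧ bit m0 y = false) : S.ncard = pick S ts := by
  rw [coverOK, Bool.and_eq_true, Nat.beq_eq] at h
  rw [← ncard_eq_pick hS h.1 hd]
  congr 1
  ext y
  refine ⟨fun hy => ⟨hy, ?_⟩, fun hy => hy.1⟩
  have h' := (hsub y hy).1
  rwa [← h.2, bit_lor, (hsub y hy).2, Bool.false_or] at h'

end Cfsg.Agent.RuRec
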